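import Cfsg.Agent.Lib.ExtraNine.Split

/-!
# A quadratic space of order `2⁸` under the Clifford algebra of a space of dimension six

Three pairs of operators with the relations of creation and annihilation determine the space and its polar form.
-/

set_option autoImplicit false
set_option linter.unusedSectionVars false

namespace CfsgLib.ThType.Coords

open CfsgLib.ExtraNine

section Lin

/-- The sum of the values on the set bits. -/
def lin {V : Type*} [Zero V] [Add V] (f : ℕ → V) : ℕ → ℕ → V
  | 0, _ => 0
  | n + 1, u => lin f n u + if u.testBit n then f n else 0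

/-- The exclusive sum of the values on the set bits. -/
def linN (f : ℕ → ℕ) : ℕ → ℕ → ℕ
  | 0, _ => 0
  | n + 1, u => linN f n u ^^^ if u.testBit n then f n else 0

variable {V : Type*} [AddCommGroup V]

theorem lin_zero (f : ℕ → V) : ∀ n, lin f n 0 = 0
  | 0 => rfl
  | n + 1 => by rw [lin, lin_zero f n]; simp

theorem lin_xor (h2 : ∀ v : V, v + v = 0) (f : ℕ → V) :
    ∀ n u w, lin f n (u ^^^ w) = lin f n u + lin f n w
  | 0, _, _ => by simp [lin]
  | n + 1, u, w => by
    rw [lin, lin, lin, lin_xor h2 f n, Nat.testBit_xor]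
    cases u.testBit n <;> cases w.testBit n <;> simp <;> abel_nf
    rw [show (2 : ℤ) • f n = 0 by rw [two_zsmul, h2]]; simp

theorem linN_xor (f : ℕ → ℕ) : ∀ n u w, linN f n (u ^^^ w) = linN f n u ^^^ linN f n w
  | 0, _, _ => by simp [linN]
  | n + 1, u, w => by
    rw [linN, linN, linN, linN_xor f n, Nat.testBit_xor]
    cases u.testBit n <;> cases w.testBit n <;>
      simp [Nat.xor_assoc, Nat.xor_comm, Nat.xor_left_comm]

theorem linN_lt {f : ℕ → ℕ} : ∀ {n : ℕ}, (∀ i < n, f i < 256) → ∀ u, linN f n u < 256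
  | 0, _, _ => by simp [linN]
  | n + 1, h, u => by
    rw [linN]
    refine Nat.xor_lt_two_pow (n := 8) (linN_lt (fun i hi => h i (by omega)) u) ?_
    split_ifs
    exacts [h n (by omega), by norm_num]

/-- An additive map is read off on the combinations. -/
theorem map_lin (h2 : ∀ v : V, v + v = 0) {W : Type*} [FunLike W V V] [AddMonoidHomClass W V V] (g : W)
    (f : ℕ → V) (h : ℕ → ℕ) : ∀ n u, (∀ i < n, g (f i) = lin f 8 (h i)) →
      g (lin f n u) = lin f 8 (linN h n u)
  | 0, _, _ => by simp [lin, linN, lin_zero]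
  | n + 1, u, H => by
    rw [lin, linN, map_add, map_lin h2 g f h n u (fun i hi => H i (by omega)), lin_xor h2]
    split_ifs
    · rw [H n (by omega)]
    · rw [map_zero, lin_zero]

end Lin

/-- The bit of a vector of the basis. -/
def tA (k U : ℕ) : ℕ := if U.testBit k then 0 else 2 ^ (U + 2 ^ k)

/-- The image of a vector of the basis under an annihilator. -/
def tB (k U : ℕ) : ℕ := if U.testBit k then 2 ^ (U - 2 ^ k) else 0

/-- A creator on combinations. -/
def la (k : Fin 3) (m : ℕ) : ℕ := linN (tA k.val) 8 m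

/-- An annihilator on combinations. -/
def lb (k : Fin 3) (m : ℕ) : ℕ := linN (tB k.val) 8 m

/-- The polar form on combinations. -/
def beta (m n : ℕ) : Bool :=
  (List.range 8).foldl (fun acc U => acc ^^ (m.testBit U && n.testBit (7 - U))) false

theorem la_lt (k : Fin 3) (m : ℕ) : la k m < 256 := linN_lt (by revert k; decide +kernel) m

theorem lb_lt (k : Fin 3) (m : ℕ) : lb k m < 256 := linN_lt (by revert k; decide +kernel) m

theorem beta_table : ∀ U < 8, ∀ W < 8, beta (2 ^ U) (2 ^ W) = decide (U + W = 7) := by decide +kernel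

/-- The annihilators bring any nonzero combination to the first vector. -/
theorem kill_ok : ((List.range 256).all fun m => Nat.beq m 0 ||
    ([m, lb 0 m, lb 1 m, lb 2 m, lb 0 (lb 1 m), lb 0 (lb 2 m), lb 1 (lb 2 m), lb 0 (lb 1 (lb 2 m))]).contains 1) =
      true := by
  decide +kernel

/-- Only the first vector is killed by all annihilators. -/
theorem vac_ok : ((List.range 256).all fun m => decide (m ≤ 1) ||
    !(Nat.beq (lb 0 m) 0 && Nat.beq (lb 1 m) 0 && Nat.beq (lb 2 m) 0)) = true := by
  decide +kernel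

variable {V : Type*} [AddCommGroup V]

/-- Three pairs of creators and annihilators. -/
structure Pairs (S : QV V) (a b : Fin 3 → AddMonoid.End V) : Prop where
  aa : ∀ k l w, a k (a l w) = a l (a k w)
  a2 : ∀ k w, a k (a k w) = 0
  bb : ∀ k l w, b k (b l w) = b l (b k w)
  b2 : ∀ k w, b k (b k w) = 0
  ba : ∀ k l w, b k (a l w) = a l (b k w) + if k = l then w else 0
  adja : ∀ k u w, S.B (a k u) w = S.B u (a k w)
  adjb : ∀ k u w, S.B (b k u) w = S.B u (b k w)

variable {S : QV V} {a b : Fin 3 → AddMonoid.End V}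

/-- A vector of the basis. -/
def bas (a : Fin 3 → AddMonoid.End V) (v : V) (U : ℕ) : V :=
  (if U.testBit 0 then a 0 else 1 : AddMonoid.End V) ((if U.testBit 1 then a 1 else 1 : AddMonoid.End V)
    ((if U.testBit 2 then a 2 else 1 : AddMonoid.End V) v))

/-- A combination of the basis. -/
def phi (a : Fin 3 → AddMonoid.End V) (v : V) (m : ℕ) : V := lin (bas a v) 8 m

theorem phi_xor (S : QV V) (v : V) (m n : ℕ) : phi a v (m ^^^ n) = phi a v m + phi a v n :=
  lin_xor S.two _ _ _ _

theorem phi_zero (v : V) : phi a v 0 = 0 := lin_zero _ _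

theorem phi_pow (v : V) {U : ℕ} (hU : U < 8) : phi a v (2 ^ U) = bas a v U := by
  interval_cases U <;> simp [phi, lin, Nat.testBit]

theorem phi_one (v : V) : phi a v 1 = v := by
  rw [show (1 : ℕ) = 2 ^ 0 from rfl, phi_pow v (by norm_num)]
  simp [bas]

namespace Pairs

variable (P : Pairs S a b)
include P

/-- A nonzero vector killed by the annihilators. -/
theorem exists_vac [Nontrivial V] : ∃ v : V, v ≠ 0 ∧ ∀ k, b k v = 0 := by
  obtain ⟨v, hv⟩ := exists_ne (0 : V)
  have step : ∀ (k : Fin 3) (Z : Finset (Fin 3)) (v : V), v ≠ 0 → (∀ l ∈ Z, b l v = 0) →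
      ∃ w, w ≠ 0 ∧ ∀ l ∈ insert k Z, b l w = 0 := by
    intro k Z v hv hZ
    by_cases h : b k v = 0
    · refine ⟨v, hv, fun l hl => ?_⟩
      rcases Finset.mem_insert.1 hl with rfl | hl
      exacts [h, hZ l hl]
    · refine ⟨b k v, h, fun l hl => ?_⟩
      rcases Finset.mem_insert.1 hl with rfl | hl
      · exact P.b2 _ v
      · rw [P.bb, hZ l hl, map_zero]
  obtain ⟨v0, h0, z0⟩ := step 0 ∅ v hv (by simp)
  obtain ⟨v1, h1, z1⟩ := step 1 _ v0 h0 z0
  obtain ⟨v2, h2, z2⟩ := step 2 _ v1 h1 z1
  exact ⟨v2, h2, fun k => z2 k (by fin_cases k <;> simp)⟩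

variable {v : V} (hv : ∀ k, b k v = 0)
include hv

theorem a_bas (k : Fin 3) {U : ℕ} (hU : U < 8) : a k (bas a v U) = phi a v (tA k.val U) := by
  fin_cases k <;> interval_cases U <;>
    simp [tA, phi, lin, bas, Nat.testBit, P.a2, P.aa 1 0, P.aa 2 0, P.aa 2 1]

theorem b_bas (k : Fin 3) {U : ℕ} (hU : U < 8) : b k (bas a v U) = phi a v (tB k.val U) := by
  fin_cases k <;> interval_cases U <;>
    simp [tB, phi, lin, bas, Nat.testBit, P.ba, hv]

theorem a_phi (k : Fin 3) (m : ℕ) : a k (phi a v m) = phi a v (la k m) :=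
  map_lin S.two (a k) _ _ 8 m fun _ hi => P.a_bas hv k hi

theorem b_phi (k : Fin 3) (m : ℕ) : b k (phi a v m) = phi a v (lb k m) :=
  map_lin S.two (b k) _ _ 8 m fun _ hi => P.b_bas hv k hi

theorem phi_inj (hv0 : v ≠ 0) {m n : ℕ} (hm : m < 256) (hn : n < 256) (h : phi a v m = phi a v n) :
    m = n := by
  have hx : m ^^^ n < 256 := Nat.xor_lt_two_pow (n := 8) hm hn
  have h0 : phi a v (m ^^^ n) = 0 := by rw [phi_xor S, h, S.two]
  refine Nat.xor_eq_zero_iff.1 (by_contra fun hne => hv0 ?_)
  have := List.all_eq_true.1 kill_ok _ (List.mem_range.2 hx)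
  simp only [Bool.or_eq_true, Nat.beq_eq, List.contains_iff_mem, hne, false_or, List.mem_cons,
    List.not_mem_nil, or_false] at this
  rw [← phi_one (a := a) v]
  rcases this with e | e | e | e | e | e | e | e <;> rw [e] <;>
    simp only [← P.b_phi hv, h0, map_zero]

theorem phi_surj (hv0 : v ≠ 0) (hcard : Nat.card V = 256) (w : V) : ∃ m < 256, phi a v m = w := by
  haveI : Finite V := Nat.finite_of_card_ne_zero (by rw [hcard]; norm_num)
  have hb : Function.Bijective fun m : Fin 256 => phi a v m.val :=
    Function.Injective.bijective_of_nat_card_le (fun m n h => Fin.ext (P.phi_inj hv hv0 m.2 n.2 h))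
      (by rw [hcard, Nat.card_fin])
  obtain ⟨m, hm⟩ := hb.2 w
  exact ⟨m.val, m.2, hm⟩

theorem B_bas_vac {U : ℕ} (hU : U < 7) : S.B v (bas a v U) = 0 := by
  obtain ⟨k, hk, hU'⟩ : ∃ k : Fin 3, U.testBit k.val = false ∧ U + 2 ^ k.val < 8 := by
    revert U; decide +kernel
  have e := P.b_bas hv k hU'
  have ht : tB k.val (U + 2 ^ k.val) = 2 ^ U := by
    have key : ∀ U < 7, ∀ k : Fin 3, U.testBit k.val = false → U + 2 ^ k.val < 8 →
        tB k.val (U + 2 ^ k.val) = 2 ^ U := by decide +kernel
    exact key U hU k hk hU'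
  rw [ht, phi_pow v (by omega)] at e
  rw [← e, ← P.adjb, hv, S.B_zero_left]

theorem B_bas (hv0 : v ≠ 0) (hcard : Nat.card V = 256) {U W : ℕ} (hU : U < 8) (hW : W < 8) :
    S.B (bas a v U) (bas a v W) = if U + W = 7 then 1 else 0 := by
  have z := fun T (hT : T < 7) => P.B_bas_vac hv (U := T) hT
  have z0 := z 0 (by norm_num); have z1 := z 1 (by norm_num); have z2 := z 2 (by norm_num)
  have z3 := z 3 (by norm_num); have z4 := z 4 (by norm_num); have z5 := z 5 (by norm_num)
  have z6 := z 6 (by norm_num)
  simp [bas, Nat.testBit] at z0 z1 z2 z3 z4 z5 z6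
  have top : S.B v (a 0 (a 1 (a 2 v))) = 1 := by
    by_contra hne
    refine hv0 (S.nondeg v fun w => ?_)
    obtain ⟨m, -, rfl⟩ := P.phi_surj hv hv0 hcard w
    show S.B v _ = 0
    have h7 : S.B v (a 0 (a 1 (a 2 v))) = 0 := by
      revert hne; generalize S.B v (a 0 (a 1 (a 2 v))) = x; revert x; decide
    have hall : ∀ n, n ≤ 8 → S.B v (lin (bas a v) n m) = 0 := by
      intro n
      induction n with
      | zero => intro _; exact S.B_zero_right _
      | succ n ih =>
        intro hn
        rw [lin, S.B_add_right, ih (by omega), zero_add]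
        have hn8 : n < 8 := by omega
        split_ifs
        · interval_cases n <;> simp [bas, Nat.testBit, z0, z1, z2, z3, z4, z5, z6, h7]
        · exact S.B_zero_right _
    exact hall 8 le_rfl
  interval_cases U <;> interval_cases W <;>
    simp [bas, Nat.testBit, P.adja, P.a2, P.aa 1 0, P.aa 2 0, P.aa 2 1, S.B_zero_right, z0, z1, z2, z3, z4, z5,
      z6, top]

theorem B_phi (hv0 : v ≠ 0) (hcard : Nat.card V = 256) {m n : ℕ} (hm : m < 256) (hn : n < 256) :
    S.B (phi a v m) (phi a v n) = if beta m n then 1 else 0 := by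
  have key : ∀ (g : V) (k : ℕ), k ≤ 8 → S.B g (lin (bas a v) k n) =
      ∑ W ∈ Finset.range k, if n.testBit W then S.B g (bas a v W) else 0 := by
    intro g k
    induction k with
    | zero => intro _; simp [lin, S.B_zero_right]
    | succ k ih =>
      intro hk
      rw [Finset.sum_range_succ, lin, S.B_add_right, ih (by omega)]
      split_ifs <;> simp [S.B_zero_right]
  have key' : ∀ (k : ℕ), k ≤ 8 → S.B (lin (bas a v) k m) (phi a v n) =
      ∑ U ∈ Finset.range k, if m.testBit U then (if n.testBit (7 - U) then 1 else 0) else 0 := by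
    intro k
    induction k with
    | zero => intro _; simp [lin, S.B_zero_left]
    | succ k ih =>
      intro hk
      rw [Finset.sum_range_succ, lin, S.B_add_left, ih (by omega)]
      congr 1
      split_ifs with h1 h2
      · rw [phi, key _ 8 le_rfl, Finset.sum_eq_single (7 - k)]
        · rw [if_pos h2, P.B_bas hv hv0 hcard (by omega) (by omega), if_pos (by omega)]
        · intro W hW hne
          rw [Finset.mem_range] at hW
          split_ifs
          · rw [P.B_bas hv hv0 hcard (by omega) hW, if_neg (by omega)]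
          · rfl
        · intro h; exact absurd (Finset.mem_range.2 (by omega)) h
      · rw [phi, key _ 8 le_rfl, Finset.sum_eq_zero]
        intro W hW
        rw [Finset.mem_range] at hW
        split_ifs with hw
        · rw [P.B_bas hv hv0 hcard (by omega) hW, if_neg]
          intro e
          exact h2 (by rw [show 7 - k = W by omega]; exact hw)
        · rfl
      · exact S.B_zero_left _
  rw [show phi a v m = lin (bas a v) 8 m from rfl, key' 8 le_rfl]
  have fold : ∀ k : ℕ, (∑ U ∈ Finset.range k, if m.testBit U then (if n.testBit (7 - U) then (1 : ZMod 2) else 0)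
      else 0) = if (List.range k).foldl (fun acc U => acc ^^ (m.testBit U && n.testBit (7 - U))) false
      then 1 else 0 := by
    intro k
    induction k with
    | zero => simp
    | succ k ih =>
      rw [Finset.sum_range_succ, ih, List.range_succ, List.foldl_append]
      simp only [List.foldl_cons, List.foldl_nil]
      generalize (List.range k).foldl (fun acc U => acc ^^ (m.testBit U && n.testBit (7 - U))) false = x
      rcases Bool.eq_false_or_eq_true (m.testBit k) with h | h <;>
        rcases Bool.eq_false_or_eq_true (n.testBit (7 - k)) with h' | h' <;> cases x <;>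
        simp [h, h'] <;> decide
  exact fold 8

end Pairs

end CfsgLib.ThType.Coords
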