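import Cfsg.Agent.Lib.ThType.Coords.Lift
import Cfsg.Agent.Lib.Presentations.AltCarmichael
import Cfsg.Agent.Lib.Known.AltAut

/-!
# The lifts of the cycles and the two possible centralisers

The pairs of an element of the model and an element acting alike form an extension by the central involution of the
alternating group.  Either it splits, and then the centraliser is that of the model, or the lifts of double
transpositions square to the central involution.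
-/

set_option autoImplicit false
set_option linter.unusedSectionVars false
set_option maxRecDepth 100000
set_option maxHeartbeats 1000000

namespace CfsgLib.ThType.Coords

open Subgroup CfsgLib.ExtraNine CfsgLib.ThOut CfsgLib.ThType.Perm

/-- A list moving `0, 1, 2, 3` to `0, 1, a, b`, of even parity. -/
def pre4 (a b : ℕ) : List ℕ :=
  let r := (List.range 9).filter fun i => i != 0 && i != 1 && i != a && i != b
  let L := 0 :: 1 :: a :: b :: r
  if Nine.evenL L then L else 0 :: 1 :: a :: b :: (r.take 3 ++ [r.getD 4 0, r.getD 3 0])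

theorem pre4_ok : ∀ k l : Fin 7, k ≠ l →
    (Nine.sorts (pre4 (k.val + 2) (l.val + 2)) && Nine.evenL (pre4 (k.val + 2) (l.val + 2))) = true ∧
    cy (Fin.ofNat 9 ((pre4 (k.val + 2) (l.val + 2)).getD 0 0)) (Fin.ofNat 9 ((pre4 (k.val + 2) (l.val + 2)).getD 1 0))
        (Fin.ofNat 9 ((pre4 (k.val + 2) (l.val + 2)).getD 2 0)) = cg k ∧
    cy (Fin.ofNat 9 ((pre4 (k.val + 2) (l.val + 2)).getD 0 0)) (Fin.ofNat 9 ((pre4 (k.val + 2) (l.val + 2)).getD 1 0))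
        (Fin.ofNat 9 ((pre4 (k.val + 2) (l.val + 2)).getD 3 0)) = cg l := by
  decide +kernel

/-- Pairs of cycles are conjugate. -/
theorem exists_move {k l : Fin 7} (h : k ≠ l) : ∃ τ : A9, τ * cg 0 * τ⁻¹ = cg k ∧ τ * cg 1 * τ⁻¹ = cg l := by
  obtain ⟨hs, h1, h2⟩ := pre4_ok k l h
  obtain ⟨g, hg⟩ := exists_el _ hs
  exact ⟨g, by rw [show cg 0 = cy 0 1 2 from rfl, cy_conj' hg]; exact h1,
    by rw [show cg 1 = cy 0 1 3 from rfl, cy_conj' hg]; exact h2⟩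

theorem gen_cg : ∀ i : Fin 9, ∀ h : i ≠ 0 ∧ i ≠ 1,
    Presentations.Carmichael.gen (show (0 : Fin 9) ≠ 1 by decide) ⟨i, h⟩ = cg (Fin.ofNat 7 (i.val - 2)) := by
  decide +kernel

theorem idx_inj : ∀ i j : Fin 9, (i ≠ 0 ∧ i ≠ 1) → (j ≠ 0 ∧ j ≠ 1) → i ≠ j →
    Fin.ofNat 7 (i.val - 2) ≠ Fin.ofNat 7 (j.val - 2) := by
  decide +kernel

theorem cg_gen : Subgroup.closure (Set.range cg) = ⊤ := by
  rw [eq_top_iff, ← Presentations.Carmichael.gen_closure (show (0 : Fin 9) ≠ 1 by decide), closure_le]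
  rintro _ ⟨⟨i, hi⟩, rfl⟩
  exact subset_closure ⟨_, (gen_cg i hi).symm⟩

theorem cg_facts : (∀ k : Fin 7, cg k * cg k * cg k = 1 ∧ cg k ^ 4 = cg k) ∧
    ∀ k l : Fin 7, k ≠ l → (cg k * cg l) ^ 2 = 1 := by
  decide +kernel

/-- A product of four transpositions. -/
def quadA : A9 := cg 0 * cg 1 * (cy 4 5 6 * cy 4 5 7)

theorem four_ok : (Nine.sorts [4, 5, 6, 7, 0, 1, 2, 3, 8] && Nine.evenL [4, 5, 6, 7, 0, 1, 2, 3, 8]) = true := by
  decide +kernel

theorem quad_comm : cg 0 * cg 1 * cy 4 5 6 = cy 4 5 6 * (cg 0 * cg 1) ∧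
    cg 0 * cg 1 * cy 4 5 7 = cy 4 5 7 * (cg 0 * cg 1) := by
  decide +kernel

variable [IsSimpleGroup Cfsg.Spor.Th] [Finite Cfsg.Spor.Th]
variable {G : Type*} [Group G] {V : Type*} [AddCommGroup V] {N : Nine G V} {C : Fusion.Coords N.S qs}

theorem piA_word (k : Fin 7) : piA (hev (cW k)) = cg k :=
  Subtype.ext ((pi_hev (cW_mem k)).trans (Equiv.ext (cW_perm k)))

theorem piA_Xc (k : Fin 7) : piA (Xc k) = cg k := by rw [Xc, map_pow, piA_word, (cg_facts.1 k).2]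

theorem qs_sq {x : ThOut.Hs} (hx : x ∈ ThOut.Qs) : x * x = 1 ∨ x * x = zH := by
  obtain ⟨v, -, e⟩ := hx
  exact bar_eq_one.1 (by rw [map_mul, e, eb_sq le_rfl])

/-- An element acting as an element of the model does. -/
def Agree (P : Copy N C) (x : ThOut.Hs) (g : G) : Prop :=
  g ∈ centralizer ({N.z} : Set G) ∧
    ∀ q q' : ↥ThOut.Qs, x * q * x⁻¹ = q' → g * P.θ q * g⁻¹ = P.θ q'

/-- The twisted centraliser, as pairs with the model. -/
structure Twisted (E : Exact N) (Γ : Subgroup (ThOut.Hs × G)) : Prop where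
  left : ∀ x, ∃ g, (x, g) ∈ Γ
  right : ∀ g ∈ centralizer ({N.z} : Set G), ∃ x, (x, g) ∈ Γ
  qs : ∀ q : ↥ThOut.Qs, ((q : ThOut.Hs), E.θ q) ∈ Γ
  cyc : ∀ k, (Xc k, E.y k) ∈ Γ
  central : (1, N.z) ∈ Γ
  mem : ∀ p ∈ Γ, p.2 ∈ centralizer ({N.z} : Set G)
  conj : ∀ p ∈ Γ, ∀ q q' : ↥ThOut.Qs, p.1 * q * p.1⁻¹ = q' → p.2 * E.θ q * p.2⁻¹ = E.θ q'
  unique : ∀ x g g', (x, g) ∈ Γ → (x, g') ∈ Γ → g' = g ∨ g' = g * N.z
  double : ∀ x g, (x, g) ∈ Γ → (∃ τ : A9, piA x = τ * (cg 0 * cg 1) * τ⁻¹) →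
    ∀ q : ↥ThOut.Qs, x * x = q → g * g = E.θ q * N.z
  quad : ∀ x g, (x, g) ∈ Γ → (∃ τ : A9, piA x = τ * quadA * τ⁻¹) →
    ∀ q : ↥ThOut.Qs, x * x = q → g * g = E.θ q

variable [Finite G] (hC : Nat.card (centralizer ({el 0} : Set Cfsg.Spor.Th)) ≤ 92897280) (P : Copy N C)
include hC

theorem θ_mem (q : ↥ThOut.Qs) : P.θ q ∈ N.Q := P.range ▸ ⟨q, rfl⟩

theorem conj_mem (x : ThOut.Hs) (q : ↥ThOut.Qs) : x * q * x⁻¹ ∈ ThOut.Qs := (qs_normal hC).conj_mem _ q.2 x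

theorem agree_one : Agree P 1 1 :=
  ⟨one_mem _, fun q q' h => by
    rw [one_mul, inv_one, mul_one] at h
    rw [Subtype.ext h, one_mul, inv_one, mul_one]⟩

theorem agree_mul {x x' : ThOut.Hs} {g g' : G} (h : Agree P x g) (h' : Agree P x' g') :
    Agree P (x * x') (g * g') := by
  refine ⟨mul_mem h.1 h'.1, fun q q' e => ?_⟩
  have e1 := h'.2 q ⟨_, conj_mem hC x' q⟩ rfl
  have e2 := h.2 ⟨_, conj_mem hC x' q⟩ q' (by rw [← e]; group)
  rw [← e2, ← e1]; group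

theorem agree_inv {x : ThOut.Hs} {g : G} (h : Agree P x g) : Agree P x⁻¹ g⁻¹ := by
  refine ⟨inv_mem h.1, fun q q' e => ?_⟩
  rw [← h.2 q' q (by rw [← e]; group)]; group

theorem agree_qs (q : ↥ThOut.Qs) : Agree P q (P.θ q) :=
  ⟨N.F.le (θ_mem hC P q), fun r r' e => by
    rw [show r' = q * r * q⁻¹ from Subtype.ext e.symm, map_mul, map_mul, map_inv]⟩

theorem agree_z : Agree P 1 N.z := by
  refine ⟨mem_centralizer_singleton_iff.2 rfl, fun q q' e => ?_⟩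
  rw [one_mul, inv_one, mul_one] at e
  rw [Subtype.ext e, (N.z_comm (θ_mem hC P q')).symm, mul_inv_cancel_right]

theorem agree_unique {x : ThOut.Hs} {g g' : G} (h : Agree P x g) (h' : Agree P x g') :
    g' = g ∨ g' = g * N.z := by
  have hc : g⁻¹ * g' ∈ centralizer (N.Q : Set G) := by
    rw [mem_centralizer_iff]
    intro y hy
    obtain ⟨q, rfl⟩ : y ∈ P.θ.range := P.range ▸ hy
    have e1 := h.2 q ⟨_, conj_mem hC x q⟩ rfl
    have e2 := h'.2 q ⟨_, conj_mem hC x q⟩ rfl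
    rw [← e1] at e2
    calc P.θ q * (g⁻¹ * g') = g⁻¹ * (g * P.θ q * g⁻¹) * g' := by group
      _ = g⁻¹ * g' * P.θ q := by rw [← e2]; group
  rw [N.F.self] at hc
  obtain ⟨c, hc', e⟩ := hc
  have : (c : G) ∈ zpowers N.z := N.F.centre ▸ ⟨c, hc', rfl⟩
  rw [Subgroup.coe_subtype] at e
  rw [e] at this
  rcases LargeExtra.zpowers_two_cases N.F.ord _ this with h1 | h1
  · exact .inl (inv_mul_eq_one.1 h1).symm
  · exact .inr (by rw [← h1]; group)

variable {A : Act A9 V} (hA : A.σ.range = N.ρ.range) (hcode : ∀ k : Fin 7, C.IsCode (A.σ (cg k)) (imgW (cW k)))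
include hA hcode

/-- An exact lift of order three. -/
theorem exists_lift (k : Fin 7) : ∃ y : G, ∃ hy : y ∈ centralizer ({N.z} : Set G),
    y ^ 3 = 1 ∧ Agree P (Xc k) y ∧ N.ρ ⟨y, hy⟩ = A.σ (cg k) := by
  classical
  obtain ⟨g0, hg0⟩ : A.σ (cg k) ∈ N.ρ.range := hA ▸ ⟨cg k, rfl⟩
  let r : Fin 8 → ↥ThOut.Qs := fun i => ⟨_, conj_mem hC (hev (cW k)) ⟨_, qw_mem i.val i.isLt⟩⟩
  have hr : ∀ i : Fin 8, (g0 : G) * P.θ ⟨_, qw_mem i.val i.isLt⟩ * (g0 : G)⁻¹ = P.θ (r i) ∨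
      (g0 : G) * P.θ ⟨_, qw_mem i.val i.isLt⟩ * (g0 : G)⁻¹ = P.θ (r i) * N.z := by
    intro i
    have hlt : 2 ^ i.val < 256 := (Nat.pow_lt_pow_right (by norm_num) i.isLt : 2 ^ i.val < 2 ^ 8)
    obtain ⟨himg, hbar⟩ := conj_word (cW_mem k) _ hlt
    have e1 := P.π_θ ⟨_, qw_mem i.val i.isLt⟩ _ hlt (eb_pow _ i.isLt).symm (θ_mem hC P _)
    have e2 := P.π_θ (r i) _ himg (by
      show bar (hev (cW k) * hev (qw i.val) * (hev (cW k))⁻¹) = _
      rw [map_mul, map_mul, map_inv, ← eb_pow _ i.isLt, hbar, mul_inv_cancel_right]) (θ_mem hC P _)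
    have e3 := N.ρ_π g0 ⟨_, θ_mem hC P ⟨_, qw_mem i.val i.isLt⟩⟩
    rw [e1, hg0, (hcode k _ hlt).2, ← e2] at e3
    exact N.π_eq e3
  let s : Fin 8 → Bool := fun i => decide ((g0 : G) * P.θ ⟨_, qw_mem i.val i.isLt⟩ * (g0 : G)⁻¹ ≠ P.θ (r i))
  obtain ⟨hlt, hpick⟩ := pick_ok s
  let R : ↥ThOut.Qs := ⟨_, sel_mem hlt⟩
  have hR : ∀ i : Fin 8, P.θ R * P.θ ⟨_, qw_mem i.val i.isLt⟩ * (P.θ R)⁻¹ =
      P.θ ⟨_, qw_mem i.val i.isLt⟩ * if s i then N.z else 1 := by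
    intro i
    have e := sel_comm i.isLt le_rfl (pick s)
    rw [← Nat.mod_add_div (cnt i.val 8 (pick s)) 2, pow_add, pow_mul, pow_two, zH_sq, one_pow, mul_one,
      hpick i] at e
    have e' : R * ⟨_, qw_mem i.val i.isLt⟩ * R⁻¹ =
        (⟨_, qw_mem i.val i.isLt⟩ : ↥ThOut.Qs) * if s i then ⟨zH, zH_mem⟩ else 1 := by
      refine Subtype.ext ?_
      show hev (selW 8 (pick s)) * hev (qw i.val) * (hev (selW 8 (pick s)))⁻¹ = _
      rcases Bool.eq_false_or_eq_true (s i) with hb | hb <;>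
        simp only [hb, Bool.false_eq_true, ↓reduceIte, pow_zero, pow_one, mul_one, if_true, if_false,
          Subgroup.coe_mul, Subgroup.coe_one] at e ⊢
      rotate_left
      · rw [← e]; group
      · calc hev (selW 8 (pick s)) * hev (qw i.val) * (hev (selW 8 (pick s)))⁻¹
            = hev (selW 8 (pick s)) * hev (qw i.val) * zH * (hev (selW 8 (pick s)))⁻¹ * zH := by
              rw [mul_assoc _ zH, zH_comm (hev (selW 8 (pick s)))⁻¹, ← mul_assoc, mul_assoc _ zH zH, zH_sq,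
                mul_one]
          _ = _ := by rw [← e]; group
    have := congrArg P.θ e'
    rw [map_mul, map_mul, map_inv] at this
    rw [this, map_mul]
    cases s i <;> simp [P.θ_z]
  set g1 : G := g0 * P.θ R with hg1
  have hg1C : g1 ∈ centralizer ({N.z} : Set G) := mul_mem g0.2 (N.F.le (θ_mem hC P _))
  have agr : Agree P (hev (cW k)) g1 := by
    refine ⟨hg1C, fun q q' e => ?_⟩
    have key : ∀ q : ↥ThOut.Qs, g1 * P.θ q * g1⁻¹ = P.θ ⟨_, conj_mem hC (hev (cW k)) q⟩ := by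
      intro q
      refine qs_induction (P := fun q => g1 * P.θ q * g1⁻¹ = P.θ ⟨_, conj_mem hC (hev (cW k)) q⟩) ?_ ?_ ?_ ?_ q
      · rw [map_one, show (⟨_, conj_mem hC (hev (cW k)) 1⟩ : ↥ThOut.Qs) = 1 from Subtype.ext (by simp),
          map_one]; group
      · intro a b h1 h2
        rw [show (⟨_, conj_mem hC (hev (cW k)) (a * b)⟩ : ↥ThOut.Qs) =
          ⟨_, conj_mem hC (hev (cW k)) a⟩ * ⟨_, conj_mem hC (hev (cW k)) b⟩ from
          Subtype.ext (by simp only [Subgroup.coe_mul]; group), map_mul, map_mul, ← h1, ← h2]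
        group
      · rw [show (⟨_, conj_mem hC (hev (cW k)) ⟨zH, zH_mem⟩⟩ : ↥ThOut.Qs) = ⟨zH, zH_mem⟩ from Subtype.ext (by
          show hev (cW k) * zH * (hev (cW k))⁻¹ = zH
          rw [← zH_comm, mul_inv_cancel_right]), P.θ_z, N.conj_z hg1C]
      · intro i hi
        have e1 : g1 * P.θ ⟨_, qw_mem i hi⟩ * g1⁻¹ = (g0 : G) *
            (P.θ ⟨_, qw_mem i hi⟩ * if s ⟨i, hi⟩ then N.z else 1) * (g0 : G)⁻¹ := by
          rw [← hR ⟨i, hi⟩, hg1]; group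
        refine e1.trans ?_
        show _ = P.θ (r ⟨i, hi⟩)
        by_cases hs : (g0 : G) * P.θ ⟨_, qw_mem i hi⟩ * (g0 : G)⁻¹ = P.θ (r ⟨i, hi⟩)
        · have : s ⟨i, hi⟩ = false := by simpa [s] using hs
          rw [this, if_neg (by simp), mul_one, hs]
        · have : s ⟨i, hi⟩ = true := by simpa [s] using hs
          rw [this, if_pos rfl]
          calc (g0 : G) * (P.θ ⟨_, qw_mem i hi⟩ * N.z) * (g0 : G)⁻¹
              = (g0 : G) * P.θ ⟨_, qw_mem i hi⟩ * (g0 : G)⁻¹ * ((g0 : G) * N.z * (g0 : G)⁻¹) := by group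
            _ = P.θ (r ⟨i, hi⟩) * N.z * N.z := by rw [(hr ⟨i, hi⟩).resolve_left hs, N.conj_z g0.2]
            _ = _ := by rw [mul_assoc, N.zz, mul_one]
    rw [key q]
    exact congrArg _ (Subtype.ext e)
  have hρ : N.ρ ⟨g1, hg1C⟩ = A.σ (cg k) := by
    rw [show (⟨g1, hg1C⟩ : centralizer ({N.z} : Set G)) = g0 * ⟨P.θ R, N.F.le (θ_mem hC P _)⟩ from rfl,
      map_mul, (N.ρ_eq_one_iff ⟨P.θ R, N.F.le (θ_mem hC P _)⟩).2 (θ_mem hC P _), mul_one, hg0]
  have h3 : A.σ (cg k) ^ 3 = 1 := by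
    rw [← map_pow, show cg k ^ 3 = cg k * cg k * cg k by rw [pow_succ, pow_two], (cg_facts.1 k).1, map_one]
  have hQ : g1 ^ 3 ∈ N.Q := (N.ρ_eq_one_iff (⟨g1, hg1C⟩ ^ 3)).1 (by rw [map_pow, hρ, h3])
  have h12 : g1 ^ 12 = 1 := by
    rw [show g1 ^ 12 = (g1 ^ 3 * g1 ^ 3) * (g1 ^ 3 * g1 ^ 3) by simp only [← pow_add]]
    have h2 := N.sq ⟨_, hQ⟩
    simp only at h2
    rw [h2]
    split_ifs <;> simp [N.zz]
  refine ⟨g1 ^ 4, pow_mem hg1C 4, by rw [← pow_mul]; exact h12, ?_, ?_⟩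
  · have : ∀ n, Agree P (hev (cW k) ^ n) (g1 ^ n) := by
      intro n
      induction n with
      | zero => rw [pow_zero, pow_zero]; exact agree_one hC P
      | succ n ih => rw [pow_succ, pow_succ]; exact agree_mul hC P ih agr
    exact this 4
  · rw [show (⟨g1 ^ 4, pow_mem hg1C 4⟩ : centralizer ({N.z} : Set G)) = ⟨g1, hg1C⟩ ^ 4 from rfl, map_pow, hρ,
      ← map_pow, (cg_facts.1 k).2]

include P in
/-- The exact lifts, and what each value of the bit gives. -/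
theorem exists_lifts : ∃ E : Exact N,
    (E.δ = false → ∃ θ' : ThOut.Hs →* G, Function.Injective θ' ∧ θ' zH = N.z ∧
      θ'.range = centralizer ({N.z} : Set G) ∧ (∀ q : ↥ThOut.Qs, θ' q = E.θ q) ∧ ∀ k, θ' (Xc k) = E.y k) ∧
    (E.δ = true → ∃ Γ : Subgroup (ThOut.Hs × G), Twisted E Γ) := by
  classical
  haveI := qs_normal hC
  choose y hy hy3 hag hρ using exists_lift hC P hA hcode
  set gens : Set (ThOut.Hs × G) :=
    Set.range (fun k => (Xc k, y k)) ∪ Set.range (fun q : ↥ThOut.Qs => ((q : ThOut.Hs), P.θ q)) ∪ {(1, N.z)}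
    with hgens
  set Γ := Subgroup.closure gens with hΓ
  have gcyc : ∀ k, (Xc k, y k) ∈ Γ := fun k => subset_closure (.inl (.inl ⟨k, rfl⟩))
  have gq : ∀ q : ↥ThOut.Qs, ((q : ThOut.Hs), P.θ q) ∈ Γ := fun q => subset_closure (.inl (.inr ⟨q, rfl⟩))
  have gz : ((1 : ThOut.Hs), N.z) ∈ Γ := subset_closure (.inr rfl)
  have inv : ∀ p ∈ Γ, Agree P p.1 p.2 ∧ ∀ h : p.2 ∈ centralizer ({N.z} : Set G),
      N.ρ ⟨p.2, h⟩ = A.σ (piA p.1) := by
    intro p hp
    induction hp using Subgroup.closure_induction with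
    | mem p hp =>
      rcases hp with (⟨k, rfl⟩ | ⟨q, rfl⟩) | rfl
      · exact ⟨hag k, fun _ => by rw [piA_Xc]; exact hρ k⟩
      · exact ⟨agree_qs hC P q, fun _ => by
          rw [(piA_eq_one hC).2 q.2, map_one]; exact (N.ρ_eq_one_iff _).2 (θ_mem hC P q)⟩
      · exact ⟨agree_z hC P, fun _ => by rw [map_one, map_one]; exact (N.ρ_eq_one_iff _).2 N.z_mem⟩
    | one => exact ⟨agree_one hC P, fun _ => by
        rw [Prod.fst_one, map_one, map_one]; exact (N.ρ_eq_one_iff _).2 (one_mem _)⟩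
    | mul a b _ _ ha hb =>
      refine ⟨agree_mul hC P ha.1 hb.1, fun h => ?_⟩
      rw [show (⟨(a * b).2, h⟩ : centralizer ({N.z} : Set G)) = ⟨a.2, ha.1.1⟩ * ⟨b.2, hb.1.1⟩ from rfl,
        map_mul, ha.2, hb.2, Prod.fst_mul, map_mul, map_mul]
    | inv a _ ha =>
      refine ⟨agree_inv hC P ha.1, fun h => ?_⟩
      rw [show (⟨a⁻¹.2, h⟩ : centralizer ({N.z} : Set G)) = (⟨a.2, ha.1.1⟩ : centralizer ({N.z} : Set G))⁻¹ from rfl,
        map_inv, ha.2, Prod.fst_inv, map_inv, map_inv]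
  let pA : ↥Γ →* A9 := piA.comp ((MonoidHom.fst ThOut.Hs G).comp Γ.subtype)
  have hpA : Function.Surjective pA := by
    rw [← MonoidHom.range_eq_top, eq_top_iff, ← cg_gen, closure_le]
    rintro _ ⟨k, rfl⟩
    exact ⟨⟨_, gcyc k⟩, piA_Xc k⟩
  let gr : ↥ThOut.Qs →* ↥Γ := MonoidHom.mk' (fun q => ⟨((q : ThOut.Hs), P.θ q), gq q⟩)
    fun a b => Subtype.ext (Prod.ext rfl (map_mul P.θ a b))
  have hD : gr.range.Normal := by
    refine ⟨?_⟩
    rintro _ ⟨q, rfl⟩ p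
    refine ⟨⟨_, conj_mem hC p.1.1 q⟩, Subtype.ext (Prod.ext rfl ?_)⟩
    exact ((inv p.1 p.2).1.2 q _ rfl).symm
  let qm := QuotientGroup.mk' gr.range
  have hker : gr.range ≤ pA.ker := by
    rintro _ ⟨q, rfl⟩
    exact (piA_eq_one hC).2 q.2
  let pbar : ↥Γ ⧸ gr.range →* A9 := QuotientGroup.lift gr.range pA hker
  have hpbar : ∀ p, pbar (qm p) = pA p := fun p => rfl
  set ζ : ↥Γ ⧸ gr.range := qm ⟨(1, N.z), gz⟩ with hζ
  have ζne : ζ ≠ 1 := by
    intro e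
    obtain ⟨q, hq⟩ := (QuotientGroup.eq_one_iff _).1 e
    have h1 : (q : ThOut.Hs) = 1 := congrArg (fun p : ↥Γ => p.1.1) hq
    have h2 : P.θ q = N.z := congrArg (fun p : ↥Γ => p.1.2) hq
    rw [Subtype.ext h1 (a2 := (1 : ↥ThOut.Qs)), map_one] at h2
    exact N.z_ne h2.symm
  have ζζ : ζ * ζ = 1 := by
    rw [hζ, ← map_mul, show (⟨(1, N.z), gz⟩ : ↥Γ) * ⟨(1, N.z), gz⟩ = 1 from
      Subtype.ext (Prod.ext (one_mul _) N.zz), map_one]
  have ζc : ∀ w, ζ * w = w * ζ := by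
    intro w
    obtain ⟨p, rfl⟩ := QuotientGroup.mk'_surjective _ w
    show qm _ * qm p = qm p * qm _
    rw [← map_mul, ← map_mul]
    congr 1
    refine Subtype.ext (Prod.ext (by simp) ?_)
    exact (mem_centralizer_singleton_iff.1 (inv p.1 p.2).1.1).symm
  have two : ∀ w, pbar w = 1 → w = 1 ∨ w = ζ := by
    intro w hw
    obtain ⟨p, rfl⟩ := QuotientGroup.mk'_surjective _ w
    have hx : p.1.1 ∈ ThOut.Qs := (piA_eq_one hC).1 hw
    rcases agree_unique hC P (agree_qs hC P ⟨_, hx⟩) (inv p.1 p.2).1 with e | e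
    · refine .inl ((QuotientGroup.eq_one_iff _).2 ⟨⟨_, hx⟩, Subtype.ext (Prod.ext rfl e.symm)⟩)
    · refine .inr ?_
      rw [hζ, ← mul_one (qm ⟨(1, N.z), gz⟩), ← (QuotientGroup.eq_one_iff (N := gr.range) (gr ⟨_, hx⟩)).2 ⟨_, rfl⟩]
      show qm p = qm _ * qm (gr _)
      rw [← map_mul]
      congr 1
      refine Subtype.ext (Prod.ext (one_mul _).symm ?_)
      rw [e]
      exact N.z_comm (θ_mem hC P _)
  let Y : Fin 7 → ↥Γ ⧸ gr.range := fun k => qm ⟨_, gcyc k⟩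
  have Yp : ∀ k, pbar (Y k) = cg k := fun k => piA_Xc k
  have Y3 : ∀ k, Y k ^ 3 = 1 := fun k => by
    have hx : Xc k ^ 3 = 1 := by
      have hq : hev (cW k) ^ 3 ∈ ThOut.Qs := (piA_eq_one hC).1 (by
        rw [map_pow, piA_word, pow_succ, pow_two, (cg_facts.1 k).1])
      rw [Xc, ← pow_mul, show hev (cW k) ^ (4 * 3) =
        (hev (cW k) ^ 3 * hev (cW k) ^ 3) * (hev (cW k) ^ 3 * hev (cW k) ^ 3) by simp only [← pow_add]]
      rcases qs_sq hq with e | e <;> rw [e]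
      exacts [one_mul _, zH_sq]
    rw [show Y k ^ 3 = qm (⟨_, gcyc k⟩ ^ 3) from (map_pow qm _ 3).symm,
      show (⟨_, gcyc k⟩ : ↥Γ) ^ 3 = 1 from Subtype.ext (Prod.ext hx (hy3 k)), map_one]
  have conjY : ∀ (τ : A9) (k l : Fin 7), τ * cg k * τ⁻¹ = cg l → ∀ w, pbar w = τ → w * Y k * w⁻¹ = Y l := by
    intro τ k l h w hw
    rcases two ((Y l)⁻¹ * (w * Y k * w⁻¹)) (by
      rw [map_mul, map_mul, map_mul, map_inv, map_inv, hw, Yp, Yp, h, inv_mul_cancel]) with e | e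
    · exact (inv_mul_eq_one.1 e).symm
    · exfalso
      rw [inv_mul_eq_iff_eq_mul] at e
      have h3 : (w * Y k * w⁻¹) ^ 3 = 1 := by rw [conj_pow, Y3]; group
      rw [e, (show Commute (Y l) ζ from (ζc (Y l)).symm).mul_pow, Y3, one_mul, pow_succ, pow_two, ζζ, one_mul]
        at h3
      exact ζne h3
  have hsq0 : (Y 0 * Y 1) ^ 2 = 1 ∨ (Y 0 * Y 1) ^ 2 = ζ :=
    two _ (by rw [map_pow, map_mul, Yp, Yp, cg_facts.2 0 1 (by decide)])
  set δ : Bool := decide ((Y 0 * Y 1) ^ 2 = ζ) with hδ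
  have hδ0 : (Y 0 * Y 1) ^ 2 = if δ then ζ else 1 := by
    rcases hsq0 with e | e
    · have : δ = false := by simp only [hδ, e, decide_eq_false_iff_not]; exact Ne.symm ζne
      rw [this, e]; rfl
    · have : δ = true := by simp only [hδ, e, decide_true]
      rw [this, e]; rfl
  have conj_fix : ∀ w : ↥Γ ⧸ gr.range, w * (if δ then ζ else 1) * w⁻¹ = if δ then ζ else 1 := fun w => by
    cases δ
    · simp
    · simp only [if_true]; rw [← ζc, mul_inv_cancel_right]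
  have hpairY : ∀ k l, k ≠ l → (Y k * Y l) ^ 2 = if δ then ζ else 1 := by
    intro k l hkl
    obtain ⟨τ, h0, h1⟩ := exists_move hkl
    obtain ⟨p, hp⟩ := hpA τ
    rw [← conjY τ 0 k h0 (qm p) hp, ← conjY τ 1 l h1 (qm p) hp,
      show qm p * Y 0 * (qm p)⁻¹ * (qm p * Y 1 * (qm p)⁻¹) = qm p * (Y 0 * Y 1) * (qm p)⁻¹ by group, conj_pow, hδ0,
      conj_fix]
  have lift_eq : ∀ (p : ↥Γ) (b : Bool), qm p = (if b then ζ else 1) → ∀ q : ↥ThOut.Qs, p.1.1 = q →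
      p.1.2 = P.θ q * if b then N.z else 1 := by
    intro p b e q hq
    have h1 : qm (p * if b then ⟨(1, N.z), gz⟩ else 1) = 1 := by
      rw [map_mul, e]; cases b <;> simp [← hζ, ζζ]
    obtain ⟨q', hq'⟩ := (QuotientGroup.eq_one_iff _).1 h1
    have a1 : (q' : ThOut.Hs) = p.1.1 := by
      have := congrArg (fun p : ↥Γ => p.1.1) hq'
      cases b <;> simpa [gr] using this
    have a2 : P.θ q' = p.1.2 * if b then N.z else 1 := by
      have := congrArg (fun p : ↥Γ => p.1.2) hq'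
      cases b <;> simpa [gr] using this
    rw [Subtype.ext (a1.trans hq) (a2 := q)] at a2
    rw [a2]
    cases b <;> simp [mul_assoc, N.zz]
  let E : Exact N :=
    ⟨P.θ, P.inj, P.range, fun q hq => by rw [Subtype.ext hq (a2 := ⟨zH, zH_mem⟩), P.θ_z], y, hy, hy3,
      fun k => (hag k).2, δ, fun k l hkl q hq => by
        exact lift_eq ((⟨_, gcyc k⟩ * ⟨_, gcyc l⟩) ^ 2) δ
          ((map_pow qm _ 2).trans ((congrArg (· ^ 2) (map_mul qm _ _)).trans (hpairY k l hkl))) q hq⟩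
  have left : ∀ x, ∃ g, (x, g) ∈ Γ := by
    intro x
    obtain ⟨p, hp⟩ := hpA (piA x)
    have : p.1.1⁻¹ * x ∈ ThOut.Qs := (piA_eq_one hC).1 (by
      rw [map_mul, map_inv, show piA p.1.1 = piA x from hp, inv_mul_cancel])
    refine ⟨p.1.2 * P.θ ⟨_, this⟩, ?_⟩
    have e := mul_mem p.2 (gq ⟨_, this⟩)
    rwa [show p.1 * (p.1.1⁻¹ * x, P.θ ⟨_, this⟩) = (x, p.1.2 * P.θ ⟨_, this⟩) from
      Prod.ext (mul_inv_cancel_left _ _) rfl] at e
  have right : ∀ g ∈ centralizer ({N.z} : Set G), ∃ x, (x, g) ∈ Γ := by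
    intro g hg
    obtain ⟨τ, hτ⟩ : N.ρ ⟨g, hg⟩ ∈ A.σ.range := hA ▸ ⟨_, rfl⟩
    obtain ⟨p, hp⟩ := hpA τ
    have e : N.ρ ⟨p.1.2, (inv p.1 p.2).1.1⟩ = N.ρ ⟨g, hg⟩ := by
      rw [(inv p.1 p.2).2, show piA p.1.1 = τ from hp, hτ]
    have hq : p.1.2⁻¹ * g ∈ P.θ.range := P.range ▸ (N.ρ_eq_iff _ _).1 e
    obtain ⟨q, hq⟩ := hq
    refine ⟨p.1.1 * q, ?_⟩
    have e := mul_mem p.2 (gq q)
    rwa [show p.1 * ((q : ThOut.Hs), P.θ q) = (p.1.1 * q, g) from
      Prod.ext rfl (by simp only [Prod.snd_mul, hq, mul_inv_cancel_left])] at e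
  refine ⟨E, fun hδf => ?_, fun hδt => ⟨Γ, ⟨left, right, gq, gcyc, gz, fun p hp => (inv p hp).1.1,
    fun p hp => (inv p hp).1.2, fun x g g' h h' => agree_unique hC P (inv _ h).1 (inv _ h').1, ?_, ?_⟩⟩⟩
  · -- the split case
    have hδf' : δ = false := hδf
    let Yi : Presentations.Carmichael.Idx (0 : Fin 9) 1 → ↥Γ ⧸ gr.range := fun i => Y (Fin.ofNat 7 (i.val.val - 2))
    obtain ⟨Ψ, hΨ⟩ := Presentations.Carmichael.exists_hom (show (0 : Fin 9) ≠ 1 by decide) Yi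
      ⟨fun i => Y3 _, fun i j hij => by
        rw [hpairY _ _ (idx_inj i.val j.val i.2 j.2 (fun e => hij (Subtype.ext e))), hδf']; rfl⟩
    have hsec : pbar.comp Ψ = MonoidHom.id _ := by
      refine Presentations.Carmichael.hom_ext (show (0 : Fin 9) ≠ 1 by decide) fun i => ?_
      rw [MonoidHom.comp_apply, hΨ, MonoidHom.id_apply, gen_cg i.val i.2]
      exact Yp _
    have sec : ∀ τ, pbar (Ψ τ) = τ := fun τ => DFunLike.congr_fun hsec τ
    let D : Subgroup ↥Γ := Ψ.range.comap qm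
    let f : ↥D →* ThOut.Hs := (MonoidHom.fst ThOut.Hs G).comp (Γ.subtype.comp D.subtype)
    have finj : Function.Injective f := by
      rw [injective_iff_map_eq_one]
      rintro ⟨⟨⟨x, g⟩, hp⟩, τ, hτ⟩ hx
      change x = 1 at hx
      subst hx
      have h1 : τ = 1 := by
        rw [← sec τ, hτ]
        show piA (1 : ThOut.Hs) = 1
        exact map_one _
      rw [h1, map_one] at hτ
      obtain ⟨q, hq⟩ := (QuotientGroup.eq_one_iff _).1 hτ.symm
      have a1 : (q : ThOut.Hs) = 1 := congrArg (fun p : ↥Γ => p.1.1) hq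
      have a2 : P.θ q = g := congrArg (fun p : ↥Γ => p.1.2) hq
      rw [Subtype.ext a1 (a2 := (1 : ↥ThOut.Qs)), map_one] at a2
      exact Subtype.ext (Subtype.ext (Prod.ext rfl a2.symm))
    have fsurj : Function.Surjective f := by
      intro x
      obtain ⟨g, hg⟩ := left x
      rcases two ((Ψ (piA x))⁻¹ * qm ⟨_, hg⟩) (by
        rw [map_mul, map_inv, sec, hpbar]; exact inv_mul_cancel _) with e | e
      · exact ⟨⟨⟨_, hg⟩, piA x, inv_mul_eq_one.1 e⟩, rfl⟩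
      · refine ⟨⟨⟨_, hg⟩ * ⟨_, gz⟩, piA x, ?_⟩, ?_⟩
        · rw [map_mul, ← hζ, inv_mul_eq_iff_eq_mul.1 e, mul_assoc, ζζ, mul_one]
        · show x * 1 = x
          rw [mul_one]
    let φ : ↥D ≃* ThOut.Hs := MulEquiv.ofBijective f ⟨finj, fsurj⟩
    let θ' : ThOut.Hs →* G := ((MonoidHom.snd ThOut.Hs G).comp (Γ.subtype.comp D.subtype)).comp φ.symm.toMonoidHom
    have θval : ∀ x g (h : (x, g) ∈ Γ), qm ⟨_, h⟩ ∈ Ψ.range → θ' x = g := by
      intro x g h hm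
      have : φ.symm x = ⟨⟨_, h⟩, hm⟩ := by rw [MulEquiv.symm_apply_eq]; rfl
      show (MonoidHom.snd ThOut.Hs G) ((φ.symm x).1.1) = g
      rw [this]; rfl
    have θq : ∀ q : ↥ThOut.Qs, θ' q = P.θ q := fun q => θval _ _ (gq q) ⟨1, by
      rw [map_one]; exact ((QuotientGroup.eq_one_iff (N := gr.range) (gr q)).2 ⟨q, rfl⟩).symm⟩
    have θy : ∀ k, θ' (Xc k) = y k := fun k => θval _ _ (gcyc k) ⟨cg k, by
      have hk := gen_cg (Fin.ofNat 9 (k.val + 2)) (by revert k; decide)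
      have e : Fin.ofNat 7 ((Fin.ofNat 9 (k.val + 2)).val - 2) = k := by revert k; decide
      rw [e] at hk
      rw [← hk, hΨ]
      show Y _ = _
      rw [e]⟩
    refine ⟨θ', ?_, ?_, ?_, θq, θy⟩
    · rw [injective_iff_map_eq_one]
      intro x hx
      have hmem := (φ.symm x).1.2
      have e1 : (φ.symm x).1.1.1 = x := φ.apply_symm_apply x
      have e2 : (φ.symm x).1.1.2 = 1 := hx
      have hag1 := (inv _ hmem).1
      rw [e1, e2] at hag1
      rcases cent_qs hC (x := x) (fun r hr => by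
        have h' := hag1.2 ⟨r, hr⟩ ⟨_, conj_mem hC x ⟨r, hr⟩⟩ rfl
        rw [one_mul, inv_one, mul_one] at h'
        have := congrArg Subtype.val (P.inj h')
        exact (eq_mul_inv_iff_mul_eq.1 this).symm) with h | h
      · exact h
      · exfalso
        have := θq ⟨zH, zH_mem⟩
        rw [P.θ_z] at this
        rw [h, this] at hx
        exact N.z_ne hx
    · rw [← P.θ_z, ← θq]
    · refine le_antisymm ?_ fun g hg => ?_
      · rintro _ ⟨x, rfl⟩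
        exact (inv _ (φ.symm x).1.2).1.1
      · obtain ⟨x, hx⟩ := right g hg
        obtain ⟨g', hg'⟩ : ∃ g', θ' x = g' := ⟨_, rfl⟩
        have hmem : (x, θ' x) ∈ Γ := by
          have := (φ.symm x).1.2
          rwa [show ((φ.symm x).1.1) = (x, θ' x) from Prod.ext (φ.apply_symm_apply x) rfl] at this
        rcases agree_unique hC P (inv _ hmem).1 (inv _ hx).1 with e | e
        · exact ⟨x, e.symm⟩
        · exact ⟨x * zH, by rw [map_mul, θq ⟨zH, zH_mem⟩, P.θ_z]; exact e.symm⟩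
  · intro x g h hτ q hq
    obtain ⟨τ, hτ⟩ := hτ
    obtain ⟨p, hp⟩ := hpA τ
    have hδt' : δ = true := hδt
    have e := lift_eq (⟨_, h⟩ * ⟨_, h⟩) δ ?_ q hq
    · rw [hδt', if_pos rfl] at e; exact e
    rw [map_mul]
    obtain ⟨w, hw⟩ : ∃ w, w = qm p * (Y 0 * Y 1) * (qm p)⁻¹ := ⟨_, rfl⟩
    have hw2 : w * w = if δ then ζ else 1 := by
      rw [hw, ← pow_two, conj_pow, hδ0, conj_fix]
    rcases two (w⁻¹ * qm ⟨_, h⟩) (by
      rw [map_mul, map_inv, hw, map_mul, map_mul, map_mul, map_inv, Yp, Yp, hpbar, hpbar,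
        show pA ⟨_, h⟩ = _ from hτ, show pA p = τ from hp, inv_mul_cancel]) with e | e
    · rw [← inv_mul_eq_one.1 e, hw2]
    · rw [inv_mul_eq_iff_eq_mul.1 e]
      calc w * ζ * (w * ζ) = w * (ζ * w) * ζ := by group
        _ = w * w * (ζ * ζ) := by rw [ζc w]; group
        _ = _ := by rw [ζζ, mul_one, hw2]
  · intro x g h hτ q hq
    obtain ⟨τ, hτ⟩ := hτ
    obtain ⟨p, hp⟩ := hpA τ
    have hδt' : δ = true := hδt
    have e := lift_eq (⟨_, h⟩ * ⟨_, h⟩) false ?_ q hq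
    · rw [if_neg (by simp), mul_one] at e; exact e
    rw [map_mul]
    obtain ⟨σ, hσ⟩ := exists_el _ four_ok
    obtain ⟨r, hr⟩ := hpA σ
    have h0 : σ * cg 0 * σ⁻¹ = cy 4 5 6 := by rw [show cg 0 = cy 0 1 2 from rfl, cy_conj' hσ]; rfl
    have h1 : σ * cg 1 * σ⁻¹ = cy 4 5 7 := by rw [show cg 1 = cy 0 1 3 from rfl, cy_conj' hσ]; rfl
    obtain ⟨u, hu⟩ : ∃ u, u = qm r * Y 0 * (qm r)⁻¹ := ⟨_, rfl⟩
    obtain ⟨v, hv⟩ : ∃ v, v = qm r * Y 1 * (qm r)⁻¹ := ⟨_, rfl⟩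
    have pu : pbar u = cy 4 5 6 := by
      rw [hu, map_mul, map_mul, map_inv, Yp, hpbar, show pA r = σ from hr, h0]
    have pv : pbar v = cy 4 5 7 := by
      rw [hv, map_mul, map_mul, map_inv, Yp, hpbar, show pA r = σ from hr, h1]
    have fix3 : ∀ w y, y ^ 3 = 1 → pbar w * pbar y = pbar y * pbar w → Commute w y := by
      intro w y hy3' hc
      rcases two (y⁻¹ * (w * y * w⁻¹)) (by
        rw [map_mul, map_mul, map_mul, map_inv, map_inv, hc]; group) with e | e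
      · exact mul_inv_eq_iff_eq_mul.1 (inv_mul_eq_one.1 e).symm
      · exfalso
        rw [inv_mul_eq_iff_eq_mul] at e
        have h3 : (w * y * w⁻¹) ^ 3 = 1 := by rw [conj_pow, hy3']; group
        rw [e, (show Commute y ζ from (ζc y).symm).mul_pow, hy3', one_mul, pow_succ, pow_two, ζζ, one_mul] at h3
        exact ζne h3
    have c1 : Commute (Y 0 * Y 1) u := fix3 _ _ (by rw [hu, conj_pow, Y3]; group) (by
      rw [map_mul, Yp, Yp, pu, quad_comm.1])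
    have c2 : Commute (Y 0 * Y 1) v := fix3 _ _ (by rw [hv, conj_pow, Y3]; group) (by
      rw [map_mul, Yp, Yp, pv, quad_comm.2])
    have sq1 : (Y 0 * Y 1) ^ 2 = ζ := by rw [hδ0, hδt', if_pos rfl]
    have sq2 : (u * v) ^ 2 = ζ := by
      rw [hu, hv, show qm r * Y 0 * (qm r)⁻¹ * (qm r * Y 1 * (qm r)⁻¹) = qm r * (Y 0 * Y 1) * (qm r)⁻¹ by group,
        conj_pow, sq1, ← ζc, mul_inv_cancel_right]
    obtain ⟨w, hw⟩ : ∃ w, w = qm p * (Y 0 * Y 1 * (u * v)) * (qm p)⁻¹ := ⟨_, rfl⟩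
    have hw2 : w * w = 1 := by
      rw [hw, ← pow_two, conj_pow, (c1.mul_right c2).mul_pow, sq1, sq2, ζζ]; group
    rcases two (w⁻¹ * qm ⟨_, h⟩) (by
      rw [map_mul, map_inv, hw, map_mul, map_mul, map_mul, map_mul, map_mul, map_inv, Yp, Yp, pu, pv, hpbar, hpbar,
        show pA ⟨_, h⟩ = _ from hτ, show pA p = τ from hp, ← quadA, inv_mul_cancel]) with e | e
    · rw [← inv_mul_eq_one.1 e, hw2]; rfl
    · rw [inv_mul_eq_iff_eq_mul.1 e]
      calc w * ζ * (w * ζ) = w * (ζ * w) * ζ := by group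
        _ = w * w * (ζ * ζ) := by rw [ζc w]; group
        _ = _ := by rw [ζζ, mul_one, hw2]; rfl

end CfsgLib.ThType.Coords
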