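import Cfsg.Agent.Lib.ThOut.AutChecks
import Cfsg.Agent.Lib.ThOut.Cent
import Cfsg.Agent.Lib.ThType.Fusion.Table
import Cfsg.Agent.Lib.ThType.Perm.Planes

/-!
# The interface of the coordinates on a centraliser with an extraspecial two-group and A₉ above it

The spin module is given on the codes of the presented group: the three-cycles `(0 1 i)` act as the words
`ThOut.cycW`.  The exact lifts act on the two-group as these words do, and have order three; one bit compares the
squares of their products with those of the model.
-/

set_option autoImplicit false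
set_option linter.unusedSectionVars false

namespace CfsgLib.ThType.Coords

open Subgroup CfsgLib.ExtraNine CfsgLib.ThOut CfsgLib.ThType.Perm

/-- The quadratic form on codes. -/
def qs (u : ℕ) : Bool :=
  let w := (List.range 8).countP fun i => Nat.testBit u i
  w % 4 == 2 || w % 4 == 3

/-- The cycle `(0 1 k+2)`. -/
def cg (k : Fin 7) : A9 := cy 0 1 (Fin.ofNat 9 (k.val + 2))

/-- Its word in the model. -/
def cW (k : Fin 7) : List ℕ := cycW.getD k.val []

/-- The lift of order three of the cycle in the model. -/
noncomputable def Xc (k : Fin 7) : ThOut.Hs := hev (cW k) ^ 4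

/-- An action with the coordinates of the spin module. -/
structure Spin {V : Type*} [AddCommGroup V] (S : QV V) (A : Act A9 V) where
  C : Fusion.Coords S qs
  code : ∀ k : Fin 7, C.IsCode (A.σ (cg k)) (imgW (cW k))

/-- A copy of the two-group with lifts of order three acting as in the model. -/
structure Exact [IsSimpleGroup Cfsg.Spor.Th] {G : Type*} [Group G] {V : Type*} [AddCommGroup V]
    (N : Nine G V) where
  θ : ↥ThOut.Qs →* G
  inj : Function.Injective θ
  range : θ.range = N.Q
  θ_z : ∀ q : ↥ThOut.Qs, (q : ThOut.Hs) = zH → θ q = N.z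
  y : Fin 7 → G
  mem : ∀ k, y k ∈ centralizer ({N.z} : Set G)
  cube : ∀ k, y k ^ 3 = 1
  conj : ∀ (k : Fin 7) (q q' : ↥ThOut.Qs), Xc k * (q : ThOut.Hs) * (Xc k)⁻¹ = q' →
    y k * θ q * (y k)⁻¹ = θ q'
  /-- Whether the squares of the products differ from those of the model by the central involution. -/
  δ : Bool
  pair : ∀ k l : Fin 7, k ≠ l → ∀ q : ↥ThOut.Qs, (Xc k * Xc l) ^ 2 = q →
    (y k * y l) ^ 2 = θ q * if δ then N.z else 1

end CfsgLib.ThType.Coords
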