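import Cfsg.Agent.Lib.ThOut.Inner
import Cfsg.Agent.Lib.ThType.Coords.Spec

/-!
# Exact lifts

The extraspecial subgroup is matched with that of the model factor by factor.  A class of the quotient acting as a
word of the model then has an element acting exactly as that word, unique up to the central involution.
-/

set_option autoImplicit false
set_option linter.unusedSectionVars false
set_option maxRecDepth 100000

namespace CfsgLib.ThType.Coords

open Subgroup CfsgLib.ExtraNine CfsgLib.ThOut CfsgLib.ThType.Perm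

section Normal

variable {M : Type*} [Group M]

/-- Eight anticommuting involutions with a central one. -/
structure Rels (p : ℕ → M) (z : M) : Prop where
  zz : z * z = 1
  zc : ∀ i < 8, z * p i = p i * z
  sq : ∀ i < 8, p i * p i = 1
  anti : ∀ i < 8, ∀ j < 8, i ≠ j → p i * p j = p j * p i * z

/-- The product of the selected factors. -/
def sel (p : ℕ → M) : ℕ → ℕ → M
  | 0, _ => 1
  | n + 1, v => sel p n v * if v.testBit n then p n else 1

/-- The number of selected factors after the given one. -/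
def aft (i : ℕ) : ℕ → ℕ → ℕ
  | 0, _ => 0
  | n + 1, v => aft i n v + if v.testBit n && Nat.blt i n then 1 else 0

/-- The element of a code and a power of the central involution. -/
def nf (p : ℕ → M) (z : M) (v b : ℕ) : M := sel p 8 v * z ^ b

theorem sel_zero (p : ℕ → M) : ∀ n, sel p n 0 = 1
  | 0 => rfl
  | n + 1 => by rw [sel, sel_zero p n]; simp

theorem sel_congr (p : ℕ → M) : ∀ {n : ℕ} {v w : ℕ}, (∀ j < n, v.testBit j = w.testBit j) →
    sel p n v = sel p n w
  | 0, _, _, _ => rfl
  | n + 1, v, w, h => by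
    rw [sel, sel, sel_congr p (fun j hj => h j (by omega)), h n (by omega)]

theorem aft_zero (i : ℕ) : ∀ n, aft i n 0 = 0
  | 0 => rfl
  | n + 1 => by rw [aft, aft_zero i n]; simp

variable {p : ℕ → M} {z : M} (R : Rels p z)
include R

theorem Rels.sel_z : ∀ {n : ℕ}, n ≤ 8 → ∀ v, z * sel p n v = sel p n v * z
  | 0, _, _ => by simp [sel]
  | n + 1, h, v => by
    rw [sel, ← mul_assoc, Rels.sel_z (by omega) v, mul_assoc, mul_assoc]
    congr 1
    split_ifs
    · exact R.zc n (by omega)
    · simp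

/-- Right multiplication by a factor. -/
theorem Rels.sel_mul {i : ℕ} (hi : i < 8) : ∀ {n : ℕ}, n ≤ 8 → i < n → ∀ v,
    sel p n v * p i = sel p n (v ^^^ 2 ^ i) * z ^ aft i n v
  | 0, _, h, _ => absurd h (by omega)
  | n + 1, hn, hin, v => by
    have hz : ∀ k, ∀ x, (x = p n ∨ x = 1) → z ^ k * x = x * z ^ k := by
      rintro k x (rfl | rfl)
      · exact ((show Commute z (p n) from R.zc n (by omega)).pow_left k).eq
      · simp
    rcases Nat.lt_succ_iff_lt_or_eq.1 hin with hlt | rfl
    · have hb : (v ^^^ 2 ^ i).testBit n = v.testBit n := by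
        rw [Nat.testBit_xor, Nat.testBit_two_pow_of_ne (by omega)]; simp
      have hbl : Nat.blt i n = true := by simpa using hlt
      rw [sel, sel, aft, hb, hbl, Bool.and_true, pow_add]
      have ih := Rels.sel_mul hi (n := n) (by omega) hlt v
      cases v.testBit n
      · simp [ih]
      · simp only [if_true, pow_one]
        rw [mul_assoc (sel p n v), R.anti n (by omega) i hi (by omega), ← mul_assoc, ← mul_assoc, ih,
          mul_assoc (sel p n _), hz _ _ (.inl rfl)]
        simp only [mul_assoc]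
    · have hbl : Nat.blt i i = false := Bool.eq_false_iff.2 (by simp)
      have ha : aft i i v = 0 := by
        have : ∀ n ≤ i, aft i n v = 0 := by
          intro n
          induction n with
          | zero => intro _; rfl
          | succ n ih =>
            intro h
            rw [aft, ih (by omega)]
            have : Nat.blt i n = false := by
              rw [Bool.eq_false_iff]; intro e; simp at e; omega
            simp [this]
        exact this i le_rfl
      rw [sel, sel, aft, ha, hbl, Bool.and_false, Nat.testBit_xor, Nat.testBit_two_pow_self,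
        sel_congr p (w := v ^^^ 2 ^ i) (v := v) (fun j hj => by
          rw [Nat.testBit_xor, Nat.testBit_two_pow_of_ne (by omega)]; simp)]
      cases v.testBit i <;> simp [mul_assoc, R.sq i hi]

theorem Rels.nf_mul {i : ℕ} (hi : i < 8) (v b : ℕ) :
    nf p z v b * p i = nf p z (v ^^^ 2 ^ i) (aft i 8 v + b) := by
  rw [nf, nf, mul_assoc, ((show Commute z (p i) from R.zc i hi).pow_left b).eq, ← mul_assoc,
    R.sel_mul hi le_rfl hi, mul_assoc, ← pow_add]

theorem Rels.nf_mul_z (v b : ℕ) : nf p z v b * z = nf p z v (b + 1) := by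
  rw [nf, nf, pow_succ, mul_assoc]

theorem Rels.nf_mod (v b : ℕ) : nf p z v (b % 2) = nf p z v b := by
  rw [nf, nf]
  conv_rhs => rw [← Nat.div_add_mod b 2, pow_add, pow_mul, pow_two, R.zz, one_pow, one_mul]

end Normal

/-- The code of an odd-order lift has period three. -/
theorem cube_ok : ∀ k : Fin 7, ∀ i : Fin 8, imgW (cW k) (imgW (cW k) (imgW (cW k) (2 ^ i.val))) = 2 ^ i.val := by
  decide +kernel

theorem cW_mem : ∀ k : Fin 7, ∀ g ∈ cW k, g ∈ gL := by decide +kernel

theorem cW_perm : ∀ k : Fin 7, ∀ x : Fin 9, ((cW k).map permE).prod x = (cg k : Equiv.Perm (Fin 9)) x := by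
  decide +kernel

theorem qs_pow : ∀ i : Fin 8, qs (2 ^ i.val) = false := by decide +kernel

theorem qs_anti : ∀ i j : Fin 8, i ≠ j → qs (2 ^ i.val ^^^ 2 ^ j.val) = true := by decide +kernel

variable [IsSimpleGroup Cfsg.Spor.Th] [Finite Cfsg.Spor.Th]

theorem sel_model : ∀ (n v : ℕ), sel (fun i => hev (qw i)) n v = hev (selW n v)
  | 0, _ => rfl
  | n + 1, v => by
    rw [sel, selW, hev_append, sel_model n v]
    split_ifs <;> simp [hev_nil]

theorem rels_model : Rels (fun i => hev (qw i)) zH :=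
  ⟨zH_sq, fun _ _ => zH_comm _, fun _ hi => qq_sq hi, fun _ hi _ hj h => qq_comm hi hj h⟩

theorem zH_mem : zH ∈ ThOut.Qs := ⟨0, by norm_num, by rw [bar_zH, eb_zero]⟩

theorem nf_mem {v : ℕ} (hv : v < 256) (b : ℕ) : nf (fun i => hev (qw i)) zH v b ∈ ThOut.Qs := by
  rw [nf, sel_model]
  exact mul_mem (sel_mem hv) (pow_mem zH_mem b)

theorem exists_nf (q : ↥ThOut.Qs) : ∃ v < 256, ∃ b < 2, (q : ThOut.Hs) = nf (fun i => hev (qw i)) zH v b := by
  obtain ⟨v, hv, e⟩ := q.2
  rcases bar_eq_one.1 (show bar ((hev (selW 8 v))⁻¹ * (q : ThOut.Hs)) = 1 by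
    rw [map_mul, map_inv, e]; exact inv_mul_cancel _) with h | h
  · exact ⟨v, hv, 0, by norm_num, by rw [nf, sel_model, pow_zero, mul_one]; exact (inv_mul_eq_one.1 h).symm⟩
  · exact ⟨v, hv, 1, by norm_num, by rw [nf, sel_model, pow_one, ← h]; group⟩

/-- The property of all elements of the two-group follows from that of the factors. -/
theorem qs_induction {P : ↥ThOut.Qs → Prop} (one : P 1) (mul : ∀ x y, P x → P y → P (x * y))
    (hz : P ⟨zH, zH_mem⟩) (hq : ∀ i (hi : i < 8), P ⟨hev (qw i), qw_mem i hi⟩) (q : ↥ThOut.Qs) : P q := by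
  obtain ⟨v, hv, b, hb, e⟩ := exists_nf q
  have hsel : ∀ n, n ≤ 8 → ∃ h : hev (selW n v) ∈ ThOut.Qs, P ⟨_, h⟩ := by
    intro n
    induction n with
    | zero => exact fun _ => ⟨one_mem _, one⟩
    | succ n ih =>
      intro hn
      obtain ⟨h, hp⟩ := ih (by omega)
      rw [selW, hev_append]
      by_cases hb : v.testBit n = true
      · rw [if_pos hb]; exact ⟨mul_mem h (qw_mem n (by omega)), mul _ _ hp (hq n (by omega))⟩
      · rw [if_neg hb, hev_nil, mul_one]; exact ⟨h, hp⟩
  obtain ⟨h, hp⟩ := hsel 8 le_rfl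
  have : q = ⟨_, h⟩ * (if b = 0 then 1 else ⟨zH, zH_mem⟩) := Subtype.ext (by
    rw [e, nf, sel_model]
    interval_cases b <;> simp)
  rw [this]
  split_ifs
  exacts [mul _ _ hp one, mul _ _ hp hz]

section

variable {G : Type*} [Group G] {V : Type*} [AddCommGroup V] (N : Nine G V) (C : Fusion.Coords N.S qs)

/-- A copy of the two-group compatible with the coordinates. -/
structure Copy where
  θ : ↥ThOut.Qs →* G
  inj : Function.Injective θ
  range : θ.range = N.Q
  θ_z : θ ⟨zH, zH_mem⟩ = N.z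
  π_θ : ∀ (q : ↥ThOut.Qs) (v : ℕ), v < 256 → bar (q : ThOut.Hs) = eb 8 v →
    ∀ h : θ q ∈ N.Q, N.π ⟨θ q, h⟩ = C.c v

theorem exists_copy : Nonempty (Copy N C) := by
  classical
  have hp : ∀ i : ℕ, ∃ a : ↥N.Q, N.π a = C.c (2 ^ i) := fun i => N.surj _
  choose a ha using hp
  have hlt : ∀ i < 8, 2 ^ i < 256 := fun i hi =>
    (Nat.pow_lt_pow_right (by norm_num) hi : 2 ^ i < 2 ^ 8)
  have R : Rels (fun i => (a i : G)) N.z := by
    refine ⟨N.zz, fun i _ => (N.z_comm (a i).2).symm, fun i hi => ?_, fun i hi j hj hij => ?_⟩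
    · rw [N.sq, ha, C.q _ (hlt i hi), qs_pow ⟨i, hi⟩]; rfl
    · have e := N.comm (a i) (a j)
      have hB : N.S.B (N.π (a i)) (N.π (a j)) = 1 := by
        rw [ha, ha, C.B_c (hlt i hi) (hlt j hj), Fusion.Bq, qs_pow ⟨i, hi⟩, qs_pow ⟨j, hj⟩,
          qs_anti ⟨i, hi⟩ ⟨j, hj⟩ (fun h => hij (congrArg Fin.val h))]
        rfl
      rw [hB, if_neg (by decide)] at e
      have : (a i : G) * a j = N.z * ((a j : G) * a i) := by rw [← e]; group
      rw [this, N.z_comm (mul_mem (a j).2 (a i).2)]
  have hsel : ∀ n, n ≤ 8 → ∀ v, ∃ h : sel (fun i => (a i : G)) n v ∈ N.Q,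
      N.π ⟨_, h⟩ = C.c (v % 2 ^ n) := by
    intro n
    induction n with
    | zero => intro _ v; exact ⟨one_mem _, by rw [pow_zero, Nat.mod_one, C.c_zero]; exact N.π_one⟩
    | succ n ih =>
      intro hn v
      obtain ⟨h, e⟩ := ih (by omega) v
      have hm : v % 2 ^ (n + 1) = v % 2 ^ n ^^^ if v.testBit n then 2 ^ n else 0 := by
        refine Nat.eq_of_testBit_eq fun j => ?_
        by_cases hb : v.testBit n = true
        · rw [if_pos hb, Nat.testBit_xor, Nat.testBit_mod_two_pow, Nat.testBit_mod_two_pow, Nat.testBit_two_pow]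
          rcases Nat.lt_trichotomy j n with h | rfl | h
          · simp [h, show j < n + 1 by omega, show ¬ n = j by omega]
          · simp [hb]
          · simp [show ¬ j < n by omega, show ¬ j < n + 1 by omega, show ¬ n = j by omega]
        · rw [if_neg hb, Nat.xor_zero, Nat.testBit_mod_two_pow, Nat.testBit_mod_two_pow]
          rcases Nat.lt_trichotomy j n with h | rfl | h
          · simp [h, show j < n + 1 by omega]
          · simp [hb]
          · simp [show ¬ j < n by omega, show ¬ j < n + 1 by omega]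
      have hm' : v % 2 ^ n < 256 :=
        lt_of_lt_of_le (Nat.mod_lt _ (by positivity)) (Nat.pow_le_pow_right (by norm_num) (by omega : n ≤ 8))
      rw [hm]
      suffices hh : ∃ y : ↥N.Q, (y : G) = sel (fun i => (a i : G)) (n + 1) v ∧
          N.π y = C.c (v % 2 ^ n ^^^ if v.testBit n then 2 ^ n else 0) by
        obtain ⟨⟨y, hy⟩, hy', e'⟩ := hh
        subst hy'
        exact ⟨hy, e'⟩
      by_cases hb : v.testBit n = true
      · refine ⟨⟨_, h⟩ * a n, by simp [sel, hb], ?_⟩
        rw [if_pos hb, C.xor _ hm' _ (hlt n (by omega)), N.π_mul, e, ha]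
      · refine ⟨⟨_, h⟩, by simp [sel, hb], ?_⟩
        rw [if_neg hb, Nat.xor_zero, e]
  have himg : ∀ v < 256, ∀ b, ∃ h : nf (fun i => (a i : G)) N.z v b ∈ N.Q,
      N.π ⟨_, h⟩ = C.c v := by
    intro v hv b
    obtain ⟨h, e⟩ := hsel 8 le_rfl v
    rw [Nat.mod_eq_of_lt (show v < 2 ^ 8 from hv)] at e
    refine ⟨mul_mem h (pow_mem N.z_mem b), ?_⟩
    have : N.π (⟨N.z, N.z_mem⟩ ^ b) = 0 := by
      induction b with
      | zero => rw [pow_zero]; exact N.π_one
      | succ b ih => rw [pow_succ, N.π_mul, ih, N.π_z, add_zero]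
    rw [show (⟨nf (fun i => (a i : G)) N.z v b, mul_mem h (pow_mem N.z_mem b)⟩ : ↥N.Q) =
      ⟨_, h⟩ * ⟨N.z, N.z_mem⟩ ^ b from Subtype.ext (by simp [nf]), N.π_mul, this, add_zero, e]
  have nf_bar : ∀ v, v < 256 → ∀ b, bar (nf (fun i => hev (qw i)) zH v b) = eb 8 v := fun v _ b => by
    rw [nf, sel_model, map_mul, map_pow, bar_zH, one_pow, mul_one]; rfl
  -- the map
  choose v hv b hb hq using exists_nf
  let f : ↥ThOut.Qs → G := fun q => nf (fun i => (a i : G)) N.z (v q) (b q)
  have hf : ∀ (q : ↥ThOut.Qs) (w c : ℕ), w < 256 → (q : ThOut.Hs) = nf (fun i => hev (qw i)) zH w c →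
      f q = nf (fun i => (a i : G)) N.z w c := by
    intro q w c hw e
    have e1 : v q = w := eb_inj (hv q) hw (by rw [← nf_bar _ (hv q) (b q), ← nf_bar _ hw c, ← hq, e])
    have e2 : b q = c % 2 := by
      have h := (hq q).symm.trans e
      rw [e1, ← rels_model.nf_mod w c] at h
      unfold nf at h
      have hc : c % 2 = 0 ∨ c % 2 = 1 := by omega
      have hb' : b q = 0 ∨ b q = 1 := by have := hb q; omega
      rcases hb' with x | x <;> rcases hc with y | y <;> rw [x, y] at h ⊢ <;> simp [zH_ne, Ne.symm zH_ne] at h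
    show nf _ _ (v q) (b q) = _
    rw [e1, e2, R.nf_mod]
  have fmul : ∀ (x q : ↥ThOut.Qs), f (x * q) = f x * f q := by
    intro x q
    revert x
    refine qs_induction (P := fun q => ∀ x, f (x * q) = f x * f q) ?_ ?_ ?_ ?_ q
    · intro x
      rw [mul_one, hf 1 0 0 (by norm_num) (by simp [nf, sel_zero])]
      simp [nf, sel_zero]
    · intro q r h1 h2 x
      rw [← mul_assoc, h2, h1, mul_assoc, ← h2]
    · intro x
      rw [hf ⟨zH, zH_mem⟩ 0 1 (by norm_num) (by simp [nf, sel_zero]),
        hf _ (v x) (b x + 1) (hv x) (by rw [Subgroup.coe_mul, hq x, rels_model.nf_mul_z]),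
        ← R.nf_mul_z]
      simp only [f, nf, sel_zero, one_mul, pow_one]
    · intro i hi x
      have h0 : f ⟨hev (qw i), qw_mem i hi⟩ = a i := by
        rw [hf _ (2 ^ i) 0 (hlt i hi) ?_]
        · have := R.nf_mul hi 0 0
          rw [Nat.zero_xor] at this
          have ha0 : aft i 8 0 = 0 := aft_zero i 8
          rw [ha0] at this
          simpa [nf, sel_zero] using this.symm
        · have := rels_model.nf_mul hi 0 0
          rw [Nat.zero_xor] at this
          have ha0 : aft i 8 0 = 0 := aft_zero i 8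
          rw [ha0] at this
          simpa [nf, sel_zero] using this
      rw [h0, hf _ (v x ^^^ 2 ^ i) (aft i 8 (v x) + b x) (Nat.xor_lt_two_pow (n := 8) (hv x) (hlt i hi))
        (by rw [Subgroup.coe_mul, hq x]; exact rels_model.nf_mul hi _ _), ← R.nf_mul hi]
  let θ : ↥ThOut.Qs →* G := MonoidHom.mk' f fmul
  have hπ : ∀ (q : ↥ThOut.Qs) (w : ℕ), w < 256 → bar (q : ThOut.Hs) = eb 8 w →
      ∀ h : θ q ∈ N.Q, N.π ⟨θ q, h⟩ = C.c w := by
    intro q w hw e h
    obtain ⟨_, e'⟩ := himg w hw (b q)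
    have hvw : v q = w := eb_inj (hv q) hw (by rw [← nf_bar _ (hv q) (b q), ← hq, e])
    refine Eq.trans ?_ e'
    congr 1
    exact Subtype.ext (by
      show f q = _
      rw [show f q = nf _ _ (v q) (b q) from rfl, hvw])
  have hz : θ ⟨zH, zH_mem⟩ = N.z := by
    show f _ = _
    rw [hf ⟨zH, zH_mem⟩ 0 1 (by norm_num) (by simp [nf, sel_zero])]
    simp [nf, sel_zero]
  refine ⟨⟨θ, ?_, ?_, hz, hπ⟩⟩
  · rw [injective_iff_map_eq_one]
    intro q e
    change nf _ _ (v q) (b q) = 1 at e
    obtain ⟨h, e'⟩ := himg (v q) (hv q) (b q)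
    have e0 : v q = 0 := by
      refine C.inj _ (hv q) 0 (by norm_num) ?_
      rw [C.c_zero, ← e', ← N.π_one]
      congr 1
      exact Subtype.ext e
    refine Subtype.ext ?_
    rw [hq q, e0]
    rw [e0] at e
    rcases (by have := hb q; omega : b q = 0 ∨ b q = 1) with x | x <;> rw [x] at e ⊢
    · simp [nf, sel_zero]
    · simp [nf, sel_zero] at e; exact absurd e N.z_ne
  · refine le_antisymm ?_ fun y hy => ?_
    · rintro _ ⟨q, rfl⟩
      exact (himg (v q) (hv q) (b q)).1
    · obtain ⟨w, hw, e⟩ := C.surj (N.π ⟨y, hy⟩)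
      obtain ⟨h, e'⟩ := himg w hw 0
      rcases N.π_eq (e'.trans e) with k | k
      · exact ⟨⟨_, nf_mem hw 0⟩, (hf _ w 0 hw rfl).trans k.symm⟩
      · refine ⟨⟨_, nf_mem hw 1⟩, (hf _ w 1 hw rfl).trans ?_⟩
        rw [show y = _ from k]
        simp [nf]

end

end CfsgLib.ThType.Coords
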