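import Cfsg.Agent.Lib.ThType.Coords.Spin
import Cfsg.Agent.Lib.ThType.Coords.Graph
import Cfsg.Agent.Lib.ThType.Fusion.Interface

/-!
# The coordinates on the centraliser, as used by the recognition
-/

set_option autoImplicit false
set_option linter.unusedSectionVars false

namespace CfsgLib.ThType.Coords

open Subgroup CfsgLib.ExtraNine CfsgLib.ThOut CfsgLib.ThType.Perm

variable [IsSimpleGroup Cfsg.Spor.Th] [Finite Cfsg.Spor.Th]

/-- Unless the centraliser covers the group modulo the odd core, it has the module and, up to one bit, the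
structure of the centraliser of the model. -/
theorem exists_coords (hC : Nat.card (centralizer ({el 0} : Set Cfsg.Spor.Th)) ≤ 92897280)
    {G : Type*} [Group G] [Finite G] {V : Type*} [AddCommGroup V] {N : Nine G V} (e : A9 ≃* ↥N.ρ.range)
    (hcard : Nat.card V = 256) (hG : centralizer ({N.z} : Set G) ⊔ Cfsg.oddCore G ≠ ⊤) :
    ∃ A : Act A9 V, Function.Injective A.σ ∧ A.σ.range = N.ρ.range ∧ Nonempty (Spin N.S A) ∧
      ∃ E : Exact N,
        (E.δ = false → ∃ θ' : ThOut.Hs →* G, Function.Injective θ' ∧ θ' zH = N.z ∧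
          θ'.range = centralizer ({N.z} : Set G) ∧ (∀ q : ↥ThOut.Qs, θ' q = E.θ q) ∧
          ∀ k, θ' (Xc k) = E.y k) ∧
        (E.δ = true → ∃ Γ : Subgroup (ThOut.Hs × G), Twisted E Γ) := by
  have hmem : ∀ g, ((e g : ↥N.ρ.range) : Equiv.Perm V) ∈ N.S.Iso := fun g => by
    obtain ⟨h, hh⟩ := (e g).2
    rw [← hh]; exact N.ρ_mem h
  let A0 : Act A9 V := ⟨N.ρ.range.subtype.comp e.toMonoidHom, fun g => (hmem g).1, N.S.two⟩
  have hi0 : Function.Injective A0.σ := N.ρ.range.subtype_injective.comp e.injective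
  have hr0 : A0.σ.range = N.ρ.range := by
    refine le_antisymm ?_ fun y hy => ⟨e.symm ⟨y, hy⟩, ?_⟩
    · rintro _ ⟨g, rfl⟩
      exact (e g).2
    · exact congrArg Subtype.val (e.apply_symm_apply ⟨y, hy⟩)
  obtain ⟨A, hr, hi, ⟨Sp⟩⟩ := exists_spin A0 hmem hcard fun f hf => by
    by_contra hne
    exact Fusion.no_fixed A0 hi0 hr0 hcard hG ⟨f, hne, hf⟩
  have hr' : A.σ.range = N.ρ.range := hr.trans hr0
  obtain ⟨P⟩ := exists_copy N Sp.C
  exact ⟨A, hi hi0, hr', ⟨Sp⟩, exists_lifts hC P hr' Sp.code⟩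

end CfsgLib.ThType.Coords
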