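import Cfsg.Agent.Lib.ThType.Coords.Spec
import Cfsg.Agent.Lib.ThType.Coords.Clifford
import Cfsg.Agent.Lib.ThType.Perm.Model

/-!
# A fixed-point-free three-cycle gives the spin module of the model

The sums of two of the seven cycles `(0 1 i)` satisfy the Clifford relations of a space of dimension six, so they
are known; one scalar is left, which changes under the outer automorphism.
-/

set_option autoImplicit false
set_option linter.unusedSectionVars false
set_option maxRecDepth 100000

namespace CfsgLib.ThType.Coords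

open CfsgLib.ExtraNine CfsgLib.ThOut CfsgLib.ThType.Perm

/-- The model codes of the basis. -/
def basM : List ℕ := [242, 204, 46, 165, 185, 85, 203, 150]

/-- The combinations of the eight unit codes. -/
def invT : List ℕ := [148, 41, 255, 224, 7, 50, 76, 81]

/-- The combination of a code. -/
def toM (u : ℕ) : ℕ := linN (fun i => invT.getD i 0) 8 u

/-- The code of a combination. -/
def ofM (m : ℕ) : ℕ := linN (fun i => basM.getD i 0) 8 m

/-- A cycle on codes. -/
def fW (k : Fin 7) (u : ℕ) : ℕ := imgW (cW k) u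

/-- The sum of a cycle and the first one on codes. -/
def fy (i : Fin 6) (u : ℕ) : ℕ := fW i.succ u ^^^ fW 0 u

/-- The sums in terms of the creators and annihilators. -/
def yM (i : Fin 6) (m : ℕ) : ℕ :=
  match i with
  | 0 => la 1 m ^^^ la 2 m ^^^ lb 2 m
  | 1 => lb 1 m ^^^ la 2 m ^^^ lb 2 m
  | 2 => la 0 m ^^^ la 1 m ^^^ lb 1 m
  | 3 => lb 0 m ^^^ la 1 m ^^^ lb 1 m
  | 4 => la 2 m ^^^ la 0 m ^^^ lb 0 m
  | 5 => lb 2 m ^^^ la 0 m ^^^ lb 0 m

theorem toM_lt (u : ℕ) : toM u < 256 := linN_lt (by decide) u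

theorem ofM_lt (m : ℕ) : ofM m < 256 := linN_lt (by decide) m

theorem ofM_toM : ∀ u < 256, ofM (toM u) = u := by decide +kernel

theorem toM_ofM : ∀ m < 256, toM (ofM m) = m := by decide +kernel

theorem fW_lt : ∀ (k : Fin 7), ((List.range 256).all fun u => Nat.blt (fW k u) 256) = true := by decide +kernel

theorem fy_ok : ∀ i : Fin 6, ((List.range 256).all fun u => Nat.beq (toM (fy i u)) (yM i (toM u))) = true := by
  decide +kernel

theorem first_ok : ∀ i : Fin 6,
    ((List.range 256).all fun u => Nat.beq (fW 0 (fy i u)) (fy i (fW 0 u) ^^^ u ^^^ fy i u)) = true := by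
  decide +kernel

theorem first_xor : ((List.range 256).all fun u => Nat.beq (fW 0 u)
    (linN (fun i => fW 0 (2 ^ i)) 8 u)) = true := by
  decide +kernel

theorem form_ok : ((List.range 256).all fun u => qs u == beta (toM u) (toM (fW 0 u))) = true := by decide +kernel

/-- A creator of the model. -/
def fa (k : Fin 3) (u : ℕ) : ℕ :=
  match k with
  | 0 => fy 0 u ^^^ fy 1 u ^^^ fy 2 u
  | 1 => fy 0 u ^^^ fy 4 u ^^^ fy 5 u
  | 2 => fy 2 u ^^^ fy 3 u ^^^ fy 4 u

theorem basM_gen : fa 0 242 = 204 ∧ fa 1 242 = 46 ∧ fa 0 46 = 165 ∧ fa 2 242 = 185 ∧ fa 0 185 = 85 ∧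
    fa 1 185 = 203 ∧ fa 0 203 = 150 := by
  decide +kernel

theorem vac_code : toM 242 = 1 := by decide +kernel

theorem cg_cube : ∀ k : Fin 7, cg k * cg k * cg k = 1 := by decide +kernel

theorem cg_pair : ∀ k l : Fin 7, k ≠ l → cg l * cg k = (cg k)⁻¹ * (cg l)⁻¹ := by decide +kernel

theorem cg_swap : ∀ k : Fin 7, MulAut.conjNormal (Equiv.swap (0 : Fin 9) 1) (cg k) = (cg k)⁻¹ := by
  decide +kernel

theorem sq_two {R : Type*} [Ring R] (a o : R) : (a + o) * (a + o) = a * a + o * o + (a * o + o * a) := by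
  simp only [add_mul, mul_add]; abel

theorem anti_two {R : Type*} [Ring R] (a b o : R) : (a + o) * (b + o) + (b + o) * (a + o) =
    (a * b + b * a) + (a * o + o * a) + (b * o + o * b) + (o * o + o * o) := by
  simp only [add_mul, mul_add]; abel

theorem sq_three {R : Type*} [Ring R] (a b c : R) : (a + b + c) * (a + b + c) =
    a * a + b * b + c * c + (a * b + b * a) + (a * c + c * a) + (b * c + c * b) := by
  simp only [add_mul, mul_add]; abel

variable {V : Type*} [AddCommGroup V] {S : QV V} (A : Act A9 V)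

theorem cg_fpf (hfree : ∀ f, A.σ (cy 0 1 2) f = f → f = 0) (k : Fin 7) {f : V}
    (hf : A.σ (cg k) f = f) : f = 0 := by
  have h2 : ∀ k : Fin 7, (1 : Fin 9) ≠ Fin.ofNat 9 (k.val + 2) ∧ (0 : Fin 9) ≠ Fin.ofNat 9 (k.val + 2) := by decide
  obtain ⟨g, g0, g1, g2⟩ := exists_three (a := (0 : Fin 9)) (b := 1) (c := Fin.ofNat 9 (k.val + 2))
    (by decide) (h2 k).1 (h2 k).2
  have e : g * cy 0 1 2 * g⁻¹ = cg k := by rw [cy_conj, g0, g1, g2, cg]
  have : A.σ g⁻¹ f = 0 := hfree _ (by
    conv_rhs => rw [← hf, ← e]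
    simp [map_mul, map_inv])
  have h0 : A.σ g 0 = 0 := by
    have := A.add g 0 0
    rw [add_zero] at this
    exact left_eq_add.1 this
  rw [← h0, ← this, map_inv]
  simp

section Operators

variable (hfree : ∀ f, A.σ (cy 0 1 2) f = f → f = 0)

/-- A cycle as an operator. -/
def X (k : Fin 7) : AddMonoid.End V := A.a (cg k)

/-- The sum of a cycle and the first one as an operator. -/
def Y (i : Fin 6) : AddMonoid.End V := X A i.succ + X A 0

include hfree

theorem X_sq (k : Fin 7) : X A k * X A k = X A k + 1 := by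
  refine AddMonoidHom.ext fun v => ?_
  show X A k (X A k v) = X A k v + v
  have h0 : X A k (X A k v) + X A k v + v = 0 := by
    refine cg_fpf A hfree k ?_
    show X A k (X A k (X A k v) + X A k v + v) = _
    have h3 : X A k (X A k (X A k v)) = v := DFunLike.congr_fun (A.a_cube (cg_cube k)) v
    rw [map_add, map_add, h3]
    abel
  calc X A k (X A k v) = X A k (X A k v) + (X A k v + v + (X A k v + v)) := by rw [A.two, add_zero]
    _ = X A k (X A k v) + X A k v + v + (X A k v + v) := by abel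
    _ = _ := by rw [h0, zero_add]

theorem X_inv (k : Fin 7) : A.a (cg k)⁻¹ = X A k + 1 := by
  rw [← X_sq A hfree, X, ← A.a_mul,
    inv_eq_of_mul_eq_one_right (show cg k * (cg k * cg k) = 1 by rw [← mul_assoc, cg_cube])]

theorem X_anti {k l : Fin 7} (h : k ≠ l) : X A k * X A l + X A l * X A k = 1 + X A k + X A l := by
  have e : X A l * X A k = (X A k + 1) * (X A l + 1) := by
    rw [← X_inv A hfree, ← X_inv A hfree, X, X, ← A.a_mul, ← A.a_mul, cg_pair k l h]
  rw [e, add_mul, mul_add, mul_add, one_mul, one_mul, mul_one]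
  calc X A k * X A l + (X A k * X A l + X A k + (X A l + 1))
      = (X A k * X A l + X A k * X A l) + (1 + X A k + X A l) := by abel
    _ = _ := by rw [A.two', zero_add]

theorem Y_sq (i : Fin 6) : Y A i * Y A i = 1 := by
  rw [Y, sq_two, X_sq A hfree, X_sq A hfree, X_anti A hfree (Fin.succ_ne_zero i)]
  calc X A i.succ + 1 + (X A 0 + 1) + (1 + X A i.succ + X A 0)
      = (X A i.succ + X A i.succ) + (X A 0 + X A 0) + (1 + 1) + 1 := by abel
    _ = 1 := by simp only [A.two', add_zero, zero_add]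

theorem Y_anti {i j : Fin 6} (hij : i ≠ j) : Y A i * Y A j + Y A j * Y A i = 1 := by
  have h1 := X_anti A hfree (k := i.succ) (l := j.succ) (fun e => hij (Fin.succ_injective _ e))
  have h2 := X_anti A hfree (Fin.succ_ne_zero i)
  have h3 := X_anti A hfree (Fin.succ_ne_zero j)
  rw [Y, Y, anti_two, h1, h2, h3, A.two', add_zero]
  calc 1 + X A i.succ + X A j.succ + (1 + X A i.succ + X A 0) + (1 + X A j.succ + X A 0)
      = (X A i.succ + X A i.succ) + (X A j.succ + X A j.succ) + (X A 0 + X A 0) + (1 + 1) + 1 := by abel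
    _ = 1 := by simp only [A.two', add_zero, zero_add]

theorem X_Y (i : Fin 6) (v : V) : X A 0 (Y A i v) = Y A i (X A 0 v) + v + Y A i v := by
  have h : X A 0 * Y A i = Y A i * X A 0 + 1 + Y A i := by
    have e := X_anti A hfree (Fin.succ_ne_zero i).symm
    simp only [Y, add_mul, mul_add]
    calc X A 0 * X A i.succ + X A 0 * X A 0
        = (X A 0 * X A i.succ + X A i.succ * X A 0) + (X A i.succ * X A 0 + X A 0 * X A 0) -
          (X A i.succ * X A 0 + X A i.succ * X A 0) := by abel
      _ = _ := by rw [e, A.two', sub_zero]; abel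
  exact DFunLike.congr_fun h v

/-- Twice the symmetrised product. -/
theorem Y_table (i j : Fin 6) : Y A i * Y A j + Y A j * Y A i = if i = j then 0 else 1 := by
  split_ifs with h
  · rw [h, A.two']
  · exact Y_anti A hfree h

omit hfree

/-- The creators. -/
def Ca : Fin 3 → AddMonoid.End V :=
  ![Y A 0 + Y A 1 + Y A 2, Y A 0 + Y A 4 + Y A 5, Y A 2 + Y A 3 + Y A 4]

/-- The annihilators. -/
def Cb : Fin 3 → AddMonoid.End V :=
  ![Y A 0 + Y A 1 + Y A 3, Y A 1 + Y A 4 + Y A 5, Y A 2 + Y A 3 + Y A 5]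

theorem anti_add_left (u v w : AddMonoid.End V) :
    (u + v) * w + w * (u + v) = (u * w + w * u) + (v * w + w * v) := by
  rw [add_mul, mul_add]; abel

theorem anti_add_right (u v w : AddMonoid.End V) :
    w * (u + v) + (u + v) * w = (w * u + u * w) + (w * v + v * w) := by
  rw [add_mul, mul_add]; abel

include hfree

theorem C_table (k l : Fin 3) : (Ca A k * Ca A l + Ca A l * Ca A k = 0) ∧
    (Cb A k * Cb A l + Cb A l * Cb A k = 0) ∧
    (Cb A k * Ca A l + Ca A l * Cb A k = if k = l then 1 else 0) := by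
  fin_cases k <;> fin_cases l <;>
    simp [Ca, Cb, anti_add_left, anti_add_right, Y_table A hfree, A.two', ← add_assoc]

theorem sum3_sq {i j l : Fin 6} (h1 : i ≠ j) (h2 : i ≠ l) (h3 : j ≠ l) :
    (Y A i + Y A j + Y A l) * (Y A i + Y A j + Y A l) = 0 := by
  rw [sq_three, Y_sq A hfree, Y_sq A hfree, Y_sq A hfree, Y_anti A hfree h1, Y_anti A hfree h2,
    Y_anti A hfree h3]
  simp only [A.two', ← add_assoc, add_zero, zero_add]

theorem pairs (hiso : ∀ g, A.σ g ∈ S.Iso) : Pairs S (Ca A) (Cb A) := by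
  have comm : ∀ {u w : AddMonoid.End V}, u * w + w * u = 0 → ∀ x, u (w x) = w (u x) := fun {u w} h x => by
    have e : u (w x) + w (u x) = 0 := DFunLike.congr_fun h x
    calc u (w x) = u (w x) + (w (u x) + w (u x)) := by rw [A.two, add_zero]
      _ = (u (w x) + w (u x)) + w (u x) := by abel
      _ = _ := by rw [e, zero_add]
  have adX : ∀ (k : Fin 7) u w, S.B (X A k u) w = S.B u (X A k w) + S.B u w := fun k u w => by
    have e := (QV.iso_B (hiso (cg k)⁻¹) (X A k u) w).symm
    have e1 : A.σ (cg k)⁻¹ (X A k u) = u := by simp [X, Act.a_apply]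
    have e2 : A.σ (cg k)⁻¹ w = X A k w + w := DFunLike.congr_fun (X_inv A hfree k) w
    rw [e, e1, e2, S.B_add_right]
  have adY : ∀ (i : Fin 6) u w, S.B (Y A i u) w = S.B u (Y A i w) := fun i u w => by
    show S.B (X A i.succ u + X A 0 u) w = S.B u (X A i.succ w + X A 0 w)
    rw [S.B_add_left, adX, adX, S.B_add_right]
    linear_combination CharTwo.add_self_eq_zero (S.B u w)
  have ad3 : ∀ (i j l : Fin 6) u w, S.B ((Y A i + Y A j + Y A l) u) w = S.B u ((Y A i + Y A j + Y A l) w) :=
    fun i j l u w => by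
    show S.B (Y A i u + Y A j u + Y A l u) w = S.B u (Y A i w + Y A j w + Y A l w)
    simp only [S.B_add_left, S.B_add_right, adY]
  refine ⟨fun k l => comm (C_table A hfree k l).1, fun k w => ?_, fun k l => comm (C_table A hfree k l).2.1,
    fun k w => ?_, fun k l w => ?_, fun k => ?_, fun k => ?_⟩
  · fin_cases k
    exacts [DFunLike.congr_fun (sum3_sq A hfree (i := 0) (j := 1) (l := 2) (by decide) (by decide) (by decide)) w,
      DFunLike.congr_fun (sum3_sq A hfree (i := 0) (j := 4) (l := 5) (by decide) (by decide) (by decide)) w,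
      DFunLike.congr_fun (sum3_sq A hfree (i := 2) (j := 3) (l := 4) (by decide) (by decide) (by decide)) w]
  · fin_cases k
    exacts [DFunLike.congr_fun (sum3_sq A hfree (i := 0) (j := 1) (l := 3) (by decide) (by decide) (by decide)) w,
      DFunLike.congr_fun (sum3_sq A hfree (i := 1) (j := 4) (l := 5) (by decide) (by decide) (by decide)) w,
      DFunLike.congr_fun (sum3_sq A hfree (i := 2) (j := 3) (l := 5) (by decide) (by decide) (by decide)) w]
  · have e := DFunLike.congr_fun (C_table A hfree k l).2.2 w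
    change Cb A k (Ca A l w) + Ca A l (Cb A k w) = _ at e
    calc Cb A k (Ca A l w) = Cb A k (Ca A l w) + (Ca A l (Cb A k w) + Ca A l (Cb A k w)) := by
          rw [A.two, add_zero]
      _ = Ca A l (Cb A k w) + (Cb A k (Ca A l w) + Ca A l (Cb A k w)) := by abel
      _ = _ := by rw [e]; split_ifs <;> rfl
  · fin_cases k <;> exact ad3 _ _ _
  · fin_cases k <;> exact ad3 _ _ _

end Operators

theorem Y_combo (h2 : ∀ f : AddMonoid.End V, f + f = 0) : ∀ i : Fin 6, Y A i =
    ![Ca A 1 + Ca A 2 + Cb A 2, Cb A 1 + Ca A 2 + Cb A 2, Ca A 0 + Ca A 1 + Cb A 1, Cb A 0 + Ca A 1 + Cb A 1,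
      Ca A 2 + Ca A 0 + Cb A 0, Cb A 2 + Ca A 0 + Cb A 0] i := by
  intro i
  fin_cases i <;> simp [Ca, Cb] <;> abel_nf <;> simp [two_mul, two_zsmul, h2]

/-- A fixed-point-free three-cycle gives the spin module, up to the outer automorphism. -/
theorem exists_spin (hiso : ∀ g, A.σ g ∈ S.Iso) (hcard : Nat.card V = 256)
    (hfree : ∀ f, A.σ (cy 0 1 2) f = f → f = 0) :
    ∃ A' : Act A9 V, A'.σ.range = A.σ.range ∧ (Function.Injective A.σ → Function.Injective A'.σ) ∧
      Nonempty (Spin S A') := by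
  haveI : Finite V := Nat.finite_of_card_ne_zero (by rw [hcard]; norm_num)
  haveI : Nontrivial V := by rw [← Finite.one_lt_card_iff_nontrivial, hcard]; norm_num
  have P := pairs A hfree hiso
  obtain ⟨v, hv0, hv⟩ := P.exists_vac
  set c : ℕ → V := fun u => phi (Ca A) v (toM u) with hc
  have cx : ∀ u w, c (u ^^^ w) = c u + c w := fun u w => by
    show phi _ _ (toM (u ^^^ w)) = _
    rw [toM, linN_xor, phi_xor S]; rfl
  have cinj : ∀ u < 256, ∀ w < 256, c u = c w → u = w := fun u hu w hw e => by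
    rw [← ofM_toM u hu, P.phi_inj hv hv0 (toM_lt u) (toM_lt w) e, ofM_toM w hw]
  have csurj : ∀ x, ∃ u < 256, c u = x := fun x => by
    obtain ⟨m, hm, rfl⟩ := P.phi_surj hv hv0 hcard x
    exact ⟨ofM m, ofM_lt m, by show phi _ _ (toM (ofM m)) = _; rw [toM_ofM m hm]⟩
  have Ycode : ∀ i, ∀ u < 256, Y A i (c u) = c (fy i u) := fun i u hu => by
    have e := List.all_eq_true.1 (fy_ok i) u (List.mem_range.2 hu)
    rw [Nat.beq_eq] at e
    show _ = phi _ _ (toM (fy i u))
    rw [e, Y_combo A A.two' i, hc]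
    fin_cases i <;>
      simp only [yM, phi_xor S, ← P.a_phi hv, ← P.b_phi hv] <;> rfl
  -- the scalar
  have flt : ∀ k : Fin 7, ∀ u < 256, fW k u < 256 := fun k u hu => by
    simpa using List.all_eq_true.1 (fW_lt k) u (List.mem_range.2 hu)
  obtain ⟨m, hm, em⟩ : ∃ m < 256, phi (Ca A) v m = X A 0 (c 242) + c (fW 0 242) := P.phi_surj hv hv0 hcard _
  have c242 : c 242 = v := by show phi _ _ (toM 242) = v; rw [vac_code, phi_one]
  let T : ℕ → V := fun u => X A 0 (c u) + c (fW 0 u)
  have Tfy : ∀ i, ∀ u < 256, T (fy i u) = Y A i (T u) := fun i u hu => by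
    have hy : fy i u < 256 := Nat.xor_lt_two_pow (n := 8) (flt _ u hu) (flt _ u hu)
    have e := List.all_eq_true.1 (first_ok i) u (List.mem_range.2 hu)
    rw [Nat.beq_eq] at e
    show X A 0 (c (fy i u)) + c (fW 0 (fy i u)) = Y A i (X A 0 (c u) + c (fW 0 u))
    rw [e, cx, cx, ← Ycode i u hu, ← Ycode i _ (flt 0 u hu), X_Y A hfree, map_add]
    calc Y A i (X A 0 (c u)) + c u + Y A i (c u) + (Y A i (c (fW 0 u)) + c u + Y A i (c u))
        = Y A i (X A 0 (c u)) + Y A i (c (fW 0 u)) + (c u + c u) + (Y A i (c u) + Y A i (c u)) := by abel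
      _ = _ := by rw [A.two, A.two, add_zero, add_zero]
  have hmb : ∀ k, lb k m = 0 := by
    have hy : ∀ i, Y A i (T 242) = T (fy i 242) := fun i => (Tfy i 242 (by norm_num)).symm
    intro k
    refine P.phi_inj hv hv0 (lb_lt k m) (by norm_num) ?_
    rw [← P.b_phi hv, em, phi_zero]
    have hz : ∀ i j l : Fin 6, fy i 242 ^^^ fy j 242 ^^^ fy l 242 = 0 → (Y A i + Y A j + Y A l) (T 242) = 0 := by
      intro i j l h
      show Y A i (T 242) + Y A j (T 242) + Y A l (T 242) = 0
      rw [hy, hy, hy]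
      show X A 0 _ + c _ + (X A 0 _ + c _) + (X A 0 _ + c _) = 0
      have e1 : X A 0 (c (fy i 242 ^^^ fy j 242 ^^^ fy l 242)) = X A 0 (c (fy i 242)) + X A 0 (c (fy j 242)) +
          X A 0 (c (fy l 242)) := by rw [cx, cx, map_add, map_add]
      have e2 : fW 0 (fy i 242) ^^^ fW 0 (fy j 242) ^^^ fW 0 (fy l 242) = 0 := by
        have key : ∀ i j l : Fin 6, fy i 242 ^^^ fy j 242 ^^^ fy l 242 = 0 →
            fW 0 (fy i 242) ^^^ fW 0 (fy j 242) ^^^ fW 0 (fy l 242) = 0 := by decide +kernel
        exact key i j l h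
      have e3 : c (fW 0 (fy i 242)) + c (fW 0 (fy j 242)) + c (fW 0 (fy l 242)) = 0 := by
        rw [← cx, ← cx, e2]
        exact phi_zero v
      rw [h, show c 0 = 0 from phi_zero v, map_zero] at e1
      calc _ = (X A 0 (c (fy i 242)) + X A 0 (c (fy j 242)) + X A 0 (c (fy l 242))) +
          (c (fW 0 (fy i 242)) + c (fW 0 (fy j 242)) + c (fW 0 (fy l 242))) := by abel
        _ = 0 := by rw [← e1, e3, add_zero]
    fin_cases k
    exacts [hz 0 1 3 (by decide +kernel), hz 1 4 5 (by decide +kernel), hz 2 3 5 (by decide +kernel)]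
  obtain ⟨s, hs⟩ : ∃ s : Bool, T 242 = if s then v else 0 := by
    have := List.all_eq_true.1 vac_ok m (List.mem_range.2 hm)
    simp only [hmb, Nat.beq_refl, Bool.and_self, Bool.not_true, Bool.or_false, decide_eq_true_eq] at this
    rcases Nat.le_one_iff_eq_zero_or_eq_one.1 this with rfl | rfl
    · exact ⟨false, em.symm.trans (phi_zero v)⟩
    · exact ⟨true, em.symm.trans (phi_one v)⟩
  have Tall : ∀ u < 256, T u = if s then c u else 0 := by
    have step : ∀ i, ∀ u < 256, T u = (if s then c u else 0) →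
        T (fy i u) = if s then c (fy i u) else 0 := fun i u hu e => by
      rw [Tfy i u hu, e]; cases s <;> simp [Ycode i u hu]
    have add : ∀ {u w}, u < 256 → w < 256 → T u = (if s then c u else 0) → T w = (if s then c w else 0) →
        T (u ^^^ w) = if s then c (u ^^^ w) else 0 := fun {u w} hu hw e e' => by
      have hx : fW 0 (u ^^^ w) = fW 0 u ^^^ fW 0 w := by
        have h := fun x (hx : x < 256) => Nat.eq_of_beq_eq_true
          (List.all_eq_true.1 first_xor x (List.mem_range.2 hx))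
        rw [h _ hu, h _ hw, h _ (Nat.xor_lt_two_pow (n := 8) hu hw), linN_xor]
      have : T (u ^^^ w) = T u + T w := by
        show X A 0 (c (u ^^^ w)) + c (fW 0 (u ^^^ w)) = _
        rw [hx, cx, cx, map_add]; simp only [T]; abel
      rw [this, e, e']; cases s <;> simp [cx]
    have fa_step : ∀ k, ∀ u < 256, T u = (if s then c u else 0) → T (fa k u) = if s then c (fa k u) else 0 := by
      intro k u hu e
      have hy : ∀ i, fy i u < 256 := fun i => Nat.xor_lt_two_pow (n := 8) (flt _ u hu) (flt _ u hu)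
      fin_cases k <;>
        exact add (Nat.xor_lt_two_pow (n := 8) (hy _) (hy _)) (hy _) (add (hy _) (hy _) (step _ u hu e)
          (step _ u hu e)) (step _ u hu e)
    obtain ⟨g1, g2, g3, g4, g5, g6, g7⟩ := basM_gen
    have t0 : T 242 = if s then c 242 else 0 := by rw [hs, c242]
    have t1 := g1 ▸ fa_step 0 _ (by norm_num) t0
    have t2 := g2 ▸ fa_step 1 _ (by norm_num) t0
    have t3 := g3 ▸ fa_step 0 _ (by norm_num) t2
    have t4 := g4 ▸ fa_step 2 _ (by norm_num) t0
    have t5 := g5 ▸ fa_step 0 _ (by norm_num) t4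
    have t6 := g6 ▸ fa_step 1 _ (by norm_num) t4
    have t7 := g7 ▸ fa_step 0 _ (by norm_num) t6
    have tb : ∀ U < 8, basM.getD U 0 < 256 ∧
        T (basM.getD U 0) = if s then c (basM.getD U 0) else 0 := by
      intro U hU
      interval_cases U
      exacts [⟨by decide, t0⟩, ⟨by decide, t1⟩, ⟨by decide, t2⟩, ⟨by decide, t3⟩, ⟨by decide, t4⟩,
        ⟨by decide, t5⟩, ⟨by decide, t6⟩, ⟨by decide, t7⟩]
    have t00 : T 0 = if s then c 0 else 0 := by
      show X A 0 (c 0) + c (fW 0 0) = _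
      rw [show fW 0 0 = 0 by decide +kernel, show c 0 = 0 from phi_zero v, map_zero]; simp
    have all : ∀ n, n ≤ 8 → ∀ q, linN (fun i => basM.getD i 0) n q < 256 ∧
        T (linN (fun i => basM.getD i 0) n q) = if s then c (linN (fun i => basM.getD i 0) n q) else 0 := by
      intro n
      induction n with
      | zero => intro _ q; exact ⟨by simp [linN], t00⟩
      | succ n ih =>
        intro hn q
        obtain ⟨h1, h2⟩ := ih (by omega) q
        rw [linN]
        by_cases hq : q.testBit n = true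
        · rw [if_pos hq]
          exact ⟨Nat.xor_lt_two_pow (n := 8) h1 (tb n (by omega)).1,
            add h1 (tb n (by omega)).1 h2 (tb n (by omega)).2⟩
        · rw [if_neg hq, Nat.xor_zero]; exact ⟨h1, h2⟩
    intro u hu
    have := (all 8 le_rfl (toM u)).2
    rwa [show linN (fun i => basM.getD i 0) 8 (toM u) = u from ofM_toM u hu] at this
  have X0code : ∀ u < 256, X A 0 (c u) = c (fW 0 u) + if s then c u else 0 := fun u hu => by
    rw [← Tall u hu]
    show _ = c (fW 0 u) + (X A 0 (c u) + c (fW 0 u))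
    calc X A 0 (c u) = X A 0 (c u) + (c (fW 0 u) + c (fW 0 u)) := by rw [A.two, add_zero]
      _ = _ := by abel
  have Xcode : ∀ k, ∀ u < 256, X A k (c u) = c (fW k u) + if s then c u else 0 := by
    intro k u hu
    rcases Fin.eq_zero_or_eq_succ k with rfl | ⟨i, rfl⟩
    · exact X0code u hu
    · have e : X A i.succ (c u) + X A 0 (c u) = c (fW i.succ u ^^^ fW 0 u) := Ycode i u hu
      rw [cx, X0code u hu] at e
      calc X A i.succ (c u) = X A i.succ (c u) + (c (fW 0 u) + (if s then c u else 0)) +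
            (c (fW 0 u) + if s then c u else 0) := by rw [add_assoc, A.two, add_zero]
        _ = _ := by rw [e, add_assoc, ← add_assoc (c (fW 0 u)), A.two, zero_add]
  have hq : ∀ u < 256, S.q (c u) = Fusion.b2z (qs u) := by
    intro u hu
    have e1 : S.q (c u) = S.B (c u) (X A 0 (c u)) := by
      have h1 : S.q (X A 0 (c u) + c u) = S.q (c u) := by
        have e : A.σ (cg 0)⁻¹ (c u) = X A 0 (c u) + c u := DFunLike.congr_fun (X_inv A hfree 0) (c u)
        rw [← e]; exact (hiso _).2 _
      have h2 : S.q (X A 0 (c u)) = S.q (c u) := (hiso (cg 0)).2 _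
      rw [S.q_add, h2, S.B_comm, CharTwo.add_self_eq_zero, zero_add] at h1
      exact h1.symm
    rw [e1, X0code u hu, S.B_add_right]
    have e2 : S.B (c u) (if s then c u else 0) = 0 := by
      cases s <;> simp [S.B_self, S.B_zero_right]
    have e3 := List.all_eq_true.1 form_ok u (List.mem_range.2 hu)
    rw [beq_iff_eq] at e3
    rw [e2, add_zero, e3]
    exact P.B_phi hv hv0 hcard (toM_lt u) (toM_lt _)
  let C : Fusion.Coords S qs :=
    ⟨c, fun u _ w _ => cx u w, cinj, csurj, hq⟩
  by_cases hsb : s = true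
  · subst hsb
    refine ⟨⟨A.σ.comp (MulAut.conjNormal (Equiv.swap (0 : Fin 9) 1)).toMonoidHom, fun g => A.add _, A.two⟩,
      ?_, fun hi => hi.comp (MulEquiv.injective _), ⟨⟨C, fun k u hu => ⟨flt k u hu, ?_⟩⟩⟩⟩
    · rw [MonoidHom.range_comp]
      simp [MonoidHom.range_eq_map]
    · show A.σ (MulAut.conjNormal (Equiv.swap (0 : Fin 9) 1) (cg k)) (c u) = c (fW k u)
      rw [cg_swap]
      have e : A.σ (cg k)⁻¹ (c u) = X A k (c u) + c u := DFunLike.congr_fun (X_inv A hfree k) (c u)
      rw [e, Xcode k u hu, if_pos rfl, add_assoc, A.two, add_zero]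
  · refine ⟨A, rfl, id, ⟨⟨C, fun k u hu => ⟨flt k u hu, ?_⟩⟩⟩⟩
    show X A k (c u) = c (fW k u)
    rw [Xcode k u hu, if_neg hsb, add_zero]

end CfsgLib.ThType.Coords
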